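import Groth.Agent.GrpQ26.Comp
import Groth.Agent.AlgGrpLib.SubGrpMono
import Groth.Agent.AbSchLib.ConnectedFibres
import Groth.Agent.FlatMor12.GeomDescent
import Groth.Agent.Et18.Descent
import Groth.Agent.AlgSpLib.SmoothSource

/-!
# Preimages of subgroups under faithfully flat homomorphisms over a field
-/

set_option autoImplicit false
set_option backward.isDefEq.respectTransparency.types false
set_option linter.style.haveILetI false
set_option maxHeartbeats 800000

universe u

open CategoryTheory CategoryTheory.Limits MonoidalCategory CartesianMonoidalCategory MonObj GrpObj AlgebraicGeometry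

noncomputable section

namespace Groth.Agent.GrpQ26

/-- The preimage of a subgroup along a homomorphism is a subgroup. -/
theorem exists_grpObj_preimage {S : Scheme.{u}} {G G' H' : Over S} [GrpObj G] [GrpObj G'] [GrpObj H'] (u : G ⟶ G')
    [IsMonHom u] (h' : H' ⟶ G') [IsMonHom h'] [Mono h'] :
    ∃ _ : GrpObj (pullback h' u), IsMonHom (pullback.fst h' u) ∧ IsMonHom (pullback.snd h' u) := by
  let i := pullback.snd h' u
  let p := pullback.fst h' u
  have w : ∀ {T : Over S} (z : T ⟶ pullback h' u), (z ≫ p) ≫ h' = (z ≫ i) ≫ u := fun z => by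
    rw [Category.assoc, Category.assoc, pullback.condition]
  have wm : ∀ {T : Over S} (a b : T ⟶ pullback h' u), ((a ≫ p) * (b ≫ p)) ≫ h' = ((a ≫ i) * (b ≫ i)) ≫ u :=
    fun a b => by rw [MonObj.mul_comp, MonObj.mul_comp, w, w]
  obtain ⟨inst, hi⟩ := AlgGrpLib.exists_grpObj_of_mono i
    ⟨pullback.lift 1 1 (by rw [MonObj.one_comp, MonObj.one_comp]), pullback.lift_snd _ _ _⟩
    ⟨pullback.lift ((fst _ _ ≫ p) * (snd _ _ ≫ p)) ((fst _ _ ≫ i) * (snd _ _ ≫ i)) (wm _ _), pullback.lift_snd _ _ _⟩
    ⟨pullback.lift p⁻¹ i⁻¹ (by rw [GrpObj.inv_comp, GrpObj.inv_comp, pullback.condition]), pullback.lift_snd _ _ _⟩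
  letI := inst
  haveI := hi
  have e1 : η[pullback h' u] ≫ p = η[H'] := by
    rw [← cancel_mono h', w, IsMonHom.one_hom (f := i), IsMonHom.one_hom (f := u), IsMonHom.one_hom (f := h')]
  have e2 : μ[pullback h' u] ≫ p = (p ⊗ₘ p) ≫ μ[H'] := by
    rw [← cancel_mono h', w, IsMonHom.mul_hom (f := i), Category.assoc _ μ[H'], IsMonHom.mul_hom (f := h'), ← Category.assoc,
      tensorHom_comp_tensorHom, Category.assoc, IsMonHom.mul_hom (f := u), ← Category.assoc, tensorHom_comp_tensorHom]
    congr 2 <;> exact pullback.condition.symm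
  exact ⟨inst, ⟨e1, e2⟩, hi⟩

variable {k : Type u} [Field k]

/-- Preimages along faithfully flat homomorphisms inherit smoothness and connectedness from a smaller preimage. -/
theorem preimage_subgroup {G G' C' H' : Over (Spec (CommRingCat.of k))} [GrpObj G] [GrpObj G'] [GrpObj C'] [GrpObj H']
    [LocallyOfFiniteType G.hom] [QuasiCompact G.hom] [LocallyOfFiniteType G'.hom]
    [LocallyOfFiniteType C'.hom] [QuasiCompact C'.hom] [LocallyOfFiniteType H'.hom] [QuasiCompact H'.hom]
    (u : G ⟶ G') [IsMonHom u] [Flat u.left] [Surjective u.left]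
    (c' : C' ⟶ G') [IsMonHom c'] [Mono c'] (h' : H' ⟶ G') [IsMonHom h'] [Mono h'] (f : C' ⟶ H') (hf : f ≫ h' = c') :
    (Smooth (pullback c' u).hom → Smooth H'.hom → Smooth (pullback h' u).hom) ∧
      (ConnectedSpace (pullback c' u).left → ConnectedSpace H'.left → ConnectedSpace (pullback h' u).left) := by
  haveI : IsMonHom f := ⟨by rw [← cancel_mono h', Category.assoc, hf, IsMonHom.one_hom, IsMonHom.one_hom],
    by rw [← cancel_mono h', Category.assoc, hf, IsMonHom.mul_hom, Category.assoc, IsMonHom.mul_hom,
      tensorHom_comp_tensorHom_assoc, hf]⟩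
  haveI : Mono f := mono_of_mono_fac hf
  haveI : IsSeparated H'.hom := SGA3xLib.isSeparated_of_grpObj H'
  haveI : QuasiCompact f.left := by
    have : QuasiCompact (f.left ≫ H'.hom) := by rw [Over.w f]; infer_instance
    exact QuasiCompact.of_comp f.left H'.hom
  haveI : IsClosedImmersion f.left := SGA3cLib.isClosedImmersion_of_mono f
  obtain ⟨Y, qY, hYl, hYq, hs, hfl, hlfp, sqY⟩ := exists_quotient f
  haveI := hYl
  haveI := hYq
  haveI := hs
  haveI := hfl
  haveI := hlfp
  obtain ⟨instX, hp, hi⟩ := exists_grpObj_preimage u h'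
  obtain ⟨instC, hpC, hiC⟩ := exists_grpObj_preimage u c'
  haveI := hp
  haveI := hi
  haveI := hpC
  haveI := hiC
  let p := pullback.fst h' u
  let j : pullback c' u ⟶ pullback h' u :=
    pullback.lift (pullback.fst c' u ≫ f) (pullback.snd c' u) (by rw [Category.assoc, hf, pullback.condition])
  have hj1 : j ≫ p = pullback.fst c' u ≫ f := pullback.lift_fst _ _ _
  have hj2 : j ≫ pullback.snd h' u = pullback.snd c' u := pullback.lift_snd _ _ _
  haveI : IsMonHom j := ⟨by rw [← cancel_mono (pullback.snd h' u), Category.assoc, hj2, IsMonHom.one_hom, IsMonHom.one_hom],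
    by rw [← cancel_mono (pullback.snd h' u), Category.assoc, hj2, IsMonHom.mul_hom, Category.assoc, IsMonHom.mul_hom,
      tensorHom_comp_tensorHom_assoc, hj2]⟩
  have hμ : ∀ (A B : Over (Spec (CommRingCat.of k))) [GrpObj A] (v : B ⟶ A) (W : Over (Spec (CommRingCat.of k))) (r : W ⟶ A ⊗ B),
      r ≫ (A ◁ v) ≫ μ[A] = (r ≫ fst A B) * (r ≫ snd A B ≫ v) := fun A B _ v W r => by
    rw [← MonObj.comp_mul]
    rfl
  let qX := p ≫ qY
  have sqX : IsPullback (fst (pullback h' u) (pullback c' u)) ((pullback h' u ◁ j) ≫ μ) qX qX := by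
    have w : fst (pullback h' u) (pullback c' u) ≫ qX = ((pullback h' u ◁ j) ≫ μ) ≫ qX := by
      have h1 := (lift (fst (pullback h' u) (pullback c' u) ≫ p) (snd (pullback h' u) (pullback c' u) ≫ pullback.fst c' u)) ≫= sqY.w
      rw [lift_fst_assoc, ← Category.assoc _ ((H' ◁ f) ≫ μ[H']), hμ, lift_fst, lift_snd_assoc] at h1
      simp only [qX, Category.assoc] at h1 ⊢
      rw [h1]
      have h2 : ((pullback h' u ◁ j) ≫ μ) ≫ p = (fst (pullback h' u) (pullback c' u) ≫ p) *
          (snd (pullback h' u) (pullback c' u) ≫ pullback.fst c' u ≫ f) := by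
        rw [← Category.id_comp ((pullback h' u ◁ j) ≫ μ), hμ, Category.id_comp, MonObj.mul_comp, Category.id_comp,
          Category.assoc, hj1]
      rw [← reassoc_of% h2]
    refine IsPullback.of_isLimit' ⟨w⟩ (PullbackCone.IsLimit.mk w (fun c => ?_) (fun c => ?_) (fun c => ?_) (fun c m h1 h2 => ?_))
    · refine lift c.fst (pullback.lift (sqY.lift (c.fst ≫ p) (c.snd ≫ p) (by simpa [qX] using c.condition) ≫ snd H' C')
        ((c.fst ≫ pullback.snd h' u)⁻¹ * (c.snd ≫ pullback.snd h' u)) ?_)
      set l := sqY.lift (c.fst ≫ p) (c.snd ≫ p) (by simpa [qX] using c.condition) with hl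
      have e1 : l ≫ fst H' C' = c.fst ≫ p := sqY.lift_fst _ _ _
      have e2 : l ≫ (H' ◁ f) ≫ μ[H'] = c.snd ≫ p := sqY.lift_snd _ _ _
      rw [hμ, e1] at e2
      rw [MonObj.mul_comp, GrpObj.inv_comp, Category.assoc c.fst, ← pullback.condition, Category.assoc c.snd,
        ← pullback.condition, ← Category.assoc c.fst, ← Category.assoc c.snd, ← e2, MonObj.mul_comp,
        inv_mul_cancel_left]
      simp only [Category.assoc, hf]
    · exact lift_fst _ _
    · rw [hμ, lift_fst, lift_snd_assoc, ← cancel_mono (pullback.snd h' u), MonObj.mul_comp, Category.assoc, hj2,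
        pullback.lift_snd, mul_inv_cancel_left]
    · refine CartesianMonoidalCategory.hom_ext _ _ (h1.trans (lift_fst _ _).symm) ?_
      rw [lift_snd, ← cancel_mono (pullback.snd c' u), pullback.lift_snd, ← h2, hμ, MonObj.mul_comp,
        eq_inv_mul_iff_mul_eq, ← h1]
      simp only [Category.assoc, hj2]
  have hpu := (IsPullback.of_hasPullback h' u).map (Over.forget (Spec (CommRingCat.of k)))
  haveI : IsSeparated G'.hom := SGA3xLib.isSeparated_of_grpObj G'
  haveI : LocallyOfFinitePresentation u.left := by
    haveI : LocallyOfFinitePresentation G.hom := LocallyOfFinitePresentation.iff_locallyOfFiniteType.2 inferInstance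
    haveI : LocallyOfFinitePresentation (u.left ≫ G'.hom) := by rw [Over.w u]; infer_instance
    haveI : LocallyOfFinitePresentation G'.hom := LocallyOfFinitePresentation.iff_locallyOfFiniteType.2 inferInstance
    exact FlatMor12.lfp_of_comp u.left G'.hom
  haveI : QuasiCompact u.left := by
    have : QuasiCompact (u.left ≫ G'.hom) := by rw [Over.w u]; infer_instance
    exact QuasiCompact.of_comp u.left G'.hom
  haveI : QuasiCompact qY.left := by
    haveI : IsLocallyNoetherian Y.left := LocallyOfFiniteType.isLocallyNoetherian Y.hom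
    haveI : QuasiSeparated Y.hom := QuasiSeparated.of_quasiSeparatedSpace _
    have : QuasiCompact (qY.left ≫ Y.hom) := by rw [Over.w qY]; infer_instance
    exact QuasiCompact.of_comp qY.left Y.hom
  haveI : Surjective p.left := MorphismProperty.of_isPullback (P := @Surjective) hpu.flip ‹_›
  haveI : Flat p.left := MorphismProperty.of_isPullback (P := @Flat) hpu.flip ‹_›
  haveI : QuasiCompact p.left := MorphismProperty.of_isPullback (P := @QuasiCompact) hpu.flip ‹_›
  haveI : LocallyOfFinitePresentation p.left :=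
    MorphismProperty.of_isPullback (P := @LocallyOfFinitePresentation) hpu.flip ‹_›
  haveI : Surjective qX.left := inferInstanceAs (Surjective (p.left ≫ qY.left))
  haveI : Flat qX.left := inferInstanceAs (Flat (p.left ≫ qY.left))
  haveI : QuasiCompact qX.left := inferInstanceAs (QuasiCompact (p.left ≫ qY.left))
  haveI : LocallyOfFinitePresentation qX.left := inferInstanceAs (LocallyOfFinitePresentation (p.left ≫ qY.left))
  have sql := sqX.map (Over.forget (Spec (CommRingCat.of k)))
  have hQ : Et18.FPQC qX.left := ⟨⟨inferInstance, inferInstance⟩, inferInstance⟩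
  refine ⟨fun hC hH => ?_, fun hC hH => ?_⟩
  · haveI : MorphismProperty.DescendsAlong @Smooth Et18.FPQC.{u} :=
      inferInstanceAs (MorphismProperty.DescendsAlong @Smooth (@Surjective ⊓ @Flat ⊓ @QuasiCompact))
    haveI : Smooth qX.left := MorphismProperty.of_isPullback_of_descendsAlong (P := @Smooth) sql hQ
      (MorphismProperty.pullback_fst _ _ hC)
    haveI : Smooth Y.hom := AlgSpLib.smooth_of_comp_fppf qY.left Y.hom (by rw [Over.w qY]; exact hH)
    rw [← Over.w qX]
    infer_instance
  · haveI := hC
    haveI := hH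
    haveI hCg : GeometricallyConnected (pullback c' u).hom :=
      AbSchLib.geometricallyConnected_of_section _ η[pullback c' u].left (Over.w η[pullback c' u]) fun s =>
        (((pullback c' u).hom.fiberHomeo s).trans ((Homeomorph.setCongr
          (Set.eq_univ_of_forall fun z => Subsingleton.elim _ s)).trans (Homeomorph.Set.univ _))).symm.surjective.connectedSpace
          (((pullback c' u).hom.fiberHomeo s).trans ((Homeomorph.setCongr
          (Set.eq_univ_of_forall fun z => Subsingleton.elim _ s)).trans (Homeomorph.Set.univ _))).symm.continuous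
    haveI hfst : GeometricallyConnected (fst (pullback h' u) (pullback c' u)).left :=
      MorphismProperty.pullback_fst _ _ hCg
    haveI : GeometricallyConnected qX.left := by
      rw [GeometricallyConnected.iff_geometricallyConnected_fiber] at hfst ⊢
      intro y
      obtain ⟨x, rfl⟩ := qX.left.surjective y
      exact (FlatMor12.fibre_connected_iff sql.flip x).1 (hfst x)
    haveI : ConnectedSpace Y.left := qY.left.surjective.connectedSpace qY.left.continuous
    exact GeometricallyConnected.connectedSpace qX.left qX.left.isOpenMap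

end Groth.Agent.GrpQ26
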