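import Groth.Agent.GrpQ26.Local
import Groth.Agent.GrpQLib.SubgroupThick
import Groth.Agent.GrpLim26.Quotient
import Groth.Agent.AlgSpLib.DeformIso
import Groth.Agent.AlgSpLib.SmoothSource
import Groth.Agent.FlatLocal.Descent
import Groth.Agent.SGA3cLib.MonoClosed

/-!
# Quotients of group schemes over a nilpotent thickening of a field
-/

set_option autoImplicit false
set_option backward.isDefEq.respectTransparency.types false
set_option backward.isDefEq.respectTransparency false
set_option maxHeartbeats 800000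
set_option linter.style.haveILetI false

universe u

open CategoryTheory CategoryTheory.Limits MonoidalCategory CartesianMonoidalCategory MonObj AlgebraicGeometry

noncomputable section

namespace Groth.Agent.GrpQ26

/-- The target of an fppf map is separated when the kernel pair is closed in the product. -/
theorem isSeparated_of_kernelPair {R U M T : Scheme.{u}} {m : U ⟶ M} {h : M ⟶ T} {r₁ r₂ : R ⟶ U}
    [Surjective m] [Flat m] [LocallyOfFinitePresentation m] (sq : IsPullback r₁ r₂ m m)
    (hc : IsClosedImmersion (pullback.lift r₁ r₂ (f := m ≫ h) (g := m ≫ h) (by rw [reassoc_of% sq.w]))) :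
    IsSeparated h := by
  let l : R ⟶ pullback (m ≫ h) (m ≫ h) := pullback.lift r₁ r₂ (by rw [reassoc_of% sq.w])
  have sqd : IsPullback (r₁ ≫ m) l (pullback.diagonal h) (Stk19b.SepQuot.sq m h) := by
    refine IsPullback.of_isLimit' ⟨?_⟩ (PullbackCone.IsLimit.mk _
      (fun c => sq.lift (c.snd ≫ pullback.fst _ _) (c.snd ≫ pullback.snd _ _) ?_) (fun c => ?_) (fun c => ?_)
      (fun c x h1 h2 => ?_))
    · apply pullback.hom_ext <;> simp [l, Stk19b.SepQuot.sq, pullback.lift_fst, pullback.lift_snd,
        pullback.lift_fst_assoc, pullback.lift_snd_assoc, sq.w]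
    · have h1 := congrArg (· ≫ pullback.fst h h) c.condition
      have h2 := congrArg (· ≫ pullback.snd h h) c.condition
      simp [Stk19b.SepQuot.sq, pullback.lift_fst, pullback.lift_snd] at h1 h2
      rw [Category.assoc, Category.assoc, ← h1, ← h2]
    · have h1 := congrArg (· ≫ pullback.fst h h) c.condition
      simp [Stk19b.SepQuot.sq, pullback.lift_fst] at h1
      rw [reassoc_of% sq.lift_fst, Category.assoc]
      first | exact h1 | exact h1.symm
    · apply pullback.hom_ext
      · rw [Category.assoc]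
        exact (congrArg _ (pullback.lift_fst _ _ _)).trans (sq.lift_fst _ _ _)
      · rw [Category.assoc]
        exact (congrArg _ (pullback.lift_snd _ _ _)).trans (sq.lift_snd _ _ _)
    · refine sq.hom_ext ?_ ?_
      · rw [sq.lift_fst, ← h2, Category.assoc, pullback.lift_fst]
      · rw [sq.lift_snd, ← h2, Category.assoc, pullback.lift_snd]
  have := Stk19b.SepQuot.sq_prop m h @Surjective inferInstance
  have := Stk19b.SepQuot.sq_prop m h @Flat inferInstance
  have := Stk19b.SepQuot.sq_prop m h @LocallyOfFinitePresentation inferInstance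
  refine ⟨IsClosedImmersion.of_isPreimmersion _ ?_⟩
  have hpre : (Stk19b.SepQuot.sq m h) ⁻¹' Set.range (pullback.diagonal h) = Set.range l := by
    ext x
    constructor
    · rintro ⟨y, hy⟩
      obtain ⟨o, -, ho⟩ := Scheme.exists_preimage_of_isPullback sqd y x hy
      exact ⟨o, ho⟩
    · rintro ⟨o, rfl⟩
      exact ⟨(r₁ ≫ m) o, by rw [← Scheme.Hom.comp_apply, sqd.w, Scheme.Hom.comp_apply]⟩
  haveI : IsClosedImmersion l := hc
  rw [← ((Stk19b.SepQuot.sq m h).isOpenMap.isQuotientMap (Stk19b.SepQuot.sq m h).continuous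
    (Stk19b.SepQuot.sq m h).surjective).isClosed_preimage, hpre]
  exact l.isClosedEmbedding.isClosed_range

variable {k : Type u} [Field k] {S : Scheme.{u}} (cs : Spec (CommRingCat.of k) ⟶ S) [IsClosedImmersion cs]
  [Surjective cs] {G H : Over S} [GrpObj G] [GrpObj H]

include cs

/-- A quasi-compact monomorphism of flat groups is a closed immersion when the base is a thickened field. -/
theorem isClosedImmersion_of_mono_thick [LocallyOfFiniteType G.hom] [LocallyOfFiniteType H.hom]
    (u : H ⟶ G) [IsMonHom u] [Mono u] [QuasiCompact u.left] : IsClosedImmersion u.left := by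
  have sq := SGA3UnitSec.isPullback_map_left cs u
  haveI : LocallyOfFiniteType (Red.bc cs G).hom := MorphismProperty.pullback_snd (P := @LocallyOfFiniteType) _ _ ‹_›
  haveI : LocallyOfFiniteType (Red.bc cs H).hom := MorphismProperty.pullback_snd (P := @LocallyOfFiniteType) _ _ ‹_›
  haveI : QuasiCompact ((Over.pullback cs).map u).left := MorphismProperty.of_isPullback sq ‹_›
  haveI : IsClosedImmersion ((Over.pullback cs).map u).left := SGA3cLib.isClosedImmersion_of_mono _
  haveI : IsClosedImmersion (pullback.fst G.hom cs) := MorphismProperty.pullback_fst (P := @IsClosedImmersion) _ _ ‹_›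
  haveI : Surjective (pullback.fst G.hom cs) := MorphismProperty.pullback_fst (P := @Surjective) _ _ ‹_›
  haveI : Mono u.left := inferInstance
  haveI : LocallyOfFiniteType (u.left ≫ G.hom) := by rw [Over.w u]; infer_instance
  haveI : LocallyOfFiniteType u.left := locallyOfFiniteType_of_comp u.left G.hom
  exact AlgSpLib.closedImmersion_of_thick sq

/-- The quotient of a group scheme by a flat closed subgroup over a thickened field. -/
theorem exists_quotient_thick [LocallyOfFinitePresentation G.hom] [LocallyOfFinitePresentation H.hom]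
    [Flat H.hom] (j : H ⟶ G) [IsMonHom j] [IsClosedImmersion j.left] :
    ∃ (Q : Over S) (q : G ⟶ Q), Flat q.left ∧ Surjective q.left ∧ LocallyOfFinitePresentation q.left ∧
      IsPullback ((G ◁ j) ≫ μ[G]) (fst G H) q q ∧ IsSeparated Q.hom ∧
      (Flat G.hom → Flat Q.hom) ∧ (Smooth G.hom → Smooth Q.hom) := by
  haveI : Mono j := Over.mono_of_mono_left _
  let F := Over.pullback cs
  let Γg := GrpQLib.subgroupGrpd j
  haveI : LocallyOfFiniteType (Red.bc cs G).hom := MorphismProperty.pullback_snd (P := @LocallyOfFiniteType) _ _ inferInstance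
  haveI : IsClosedImmersion (F.map j).left := MorphismProperty.of_isPullback (SGA3UnitSec.isPullback_map_left cs j) ‹_›
  obtain ⟨Q₀, q₀, -, hs₀, hf₀, hl₀, sqQ₀⟩ := exists_quotient_lft (G := Red.bc cs G) (H := Red.bc cs H) (F.map j)
  haveI := hs₀
  haveI := hf₀
  haveI := hl₀
  have hμ : (G ◁ j) ≫ μ[G] = GrpQLib.rightAct j := by
    show _ = fst G H * (snd G H ≫ j)
    rw [Hom.mul_def]; congr 1
  have sqk := (GrpLim26.isPullback_act_iff cs j q₀).1 sqQ₀.flip
  rw [hμ] at sqk
  have hs' : IsPullback (pullback.fst (G ⊗ H).hom cs) (F.map (fst G H)).left Γg.s (pullback.fst G.hom cs) :=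
    SGA3UnitSec.isPullback_map_left cs (fst G H)
  have ht' : IsPullback (pullback.fst (G ⊗ H).hom cs) (F.map (GrpQLib.rightAct j)).left Γg.t (pullback.fst G.hom cs) :=
    SGA3UnitSec.isPullback_map_left cs (GrpQLib.rightAct j)
  let c₀ := pullback.fst G.hom cs
  haveI : IsClosedImmersion c₀ := MorphismProperty.pullback_fst (P := @IsClosedImmersion) _ _ ‹_›
  haveI : Surjective c₀ := MorphismProperty.pullback_fst (P := @Surjective) _ _ ‹_›
  let ψ : pullback Γg.s c₀ ≅ pullback Γg.t c₀ := hs'.isoPullback.symm ≪≫ ht'.isoPullback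
  have hψ : ψ.hom ≫ pullback.fst Γg.t c₀ = pullback.fst Γg.s c₀ :=
    (Category.assoc _ _ _).trans ((congrArg (hs'.isoPullback.inv ≫ ·) ht'.isoPullback_hom_fst).trans hs'.isoPullback_inv_fst)
  have sq₀ : IsPullback (ψ.hom ≫ pullback.snd Γg.t c₀) (pullback.snd Γg.s c₀) q₀.left q₀.left := by
    refine (sqk.map (Over.forget _)).of_iso hs'.isoPullback (Iso.refl _) (Iso.refl _) (Iso.refl _) ?_ ?_ ?_ ?_
    · refine Eq.trans (Category.comp_id _) ?_
      refine Eq.trans ?_ (congrArg (hs'.isoPullback.hom ≫ ·) (Category.assoc _ _ _)).symm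
      refine Eq.trans ?_ (hs'.isoPullback.hom_inv_id_assoc _).symm
      exact ht'.isoPullback_hom_snd.symm
    · exact (Category.comp_id _).trans hs'.isoPullback_hom_snd.symm
    · exact (Category.comp_id _).trans (Category.id_comp _).symm
    · exact (Category.comp_id _).trans (Category.id_comp _).symm
  haveI : Mono Γg.j := ⟨fun {T} x y e => by
    have e1 : x ≫ (GrpQLib.rightAct j).left = y ≫ (GrpQLib.rightAct j).left := by
      have e' := congrArg (· ≫ pullback.fst Γg.pU Γg.pU) e
      simp only [Category.assoc, Grpd.GroupoidScheme.j, pullback.lift_fst] at e'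
      exact e'
    have e2 : x ≫ (fst G H).left = y ≫ (fst G H).left := by
      have e' := congrArg (· ≫ pullback.snd Γg.pU Γg.pU) e
      simp only [Category.assoc, Grpd.GroupoidScheme.j, pullback.lift_snd] at e'
      exact e'
    let T' : Over S := Over.mk (x ≫ (G ⊗ H).hom)
    let x' : T' ⟶ G ⊗ H := Over.homMk x rfl
    let y' : T' ⟶ G ⊗ H := Over.homMk y (by
      show y ≫ (G ⊗ H).hom = x ≫ (G ⊗ H).hom
      refine (congrArg (y ≫ ·) (Over.w (fst G H)).symm).trans ?_
      refine (Category.assoc _ _ _).symm.trans ((congrArg (· ≫ G.hom) e2.symm).trans ?_)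
      exact (Category.assoc _ _ _).trans (congrArg (x ≫ ·) (Over.w (fst G H))))
    have f1 : x' ≫ GrpQLib.rightAct j = y' ≫ GrpQLib.rightAct j := Over.OverMorphism.ext e1
    have f2 : x' ≫ fst G H = y' ≫ fst G H := Over.OverMorphism.ext e2
    rw [GrpQLib.comp_rightAct, GrpQLib.comp_rightAct, f2, mul_right_inj, cancel_mono] at f1
    exact congrArg CommaMorphism.left (GrpQLib.hom_ext_GH f2 f1)⟩
  haveI : Surjective H.hom :=
    ⟨fun y => ⟨η[H].left y, congrArg (fun f => f.base y) (Over.w η[H])⟩⟩
  haveI : Surjective Γg.s := MorphismProperty.pullback_fst _ _ ‹Surjective H.hom›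
  haveI : Flat Γg.s := MorphismProperty.pullback_fst _ _ ‹Flat H.hom›
  haveI : LocallyOfFinitePresentation Γg.s := MorphismProperty.pullback_fst _ _ ‹LocallyOfFinitePresentation H.hom›
  haveI : LocallyOfFinitePresentation Γg.t := by
    have hj : IsIso (lift (GrpQLib.rightAct j) (snd G H)⁻¹) :=
      ⟨lift (GrpQLib.rightAct j) (snd G H)⁻¹,
        GrpQLib.hom_ext_GH (by rw [Category.assoc, lift_fst, GrpQLib.comp_rightAct, lift_fst, lift_snd,
            GrpObj.inv_comp, mul_inv_cancel_right, Category.id_comp])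
          (by rw [Category.assoc, lift_snd, GrpObj.comp_inv, lift_snd, _root_.inv_inv, Category.id_comp]),
        GrpQLib.hom_ext_GH (by rw [Category.assoc, lift_fst, GrpQLib.comp_rightAct, lift_fst, lift_snd,
            GrpObj.inv_comp, mul_inv_cancel_right, Category.id_comp])
          (by rw [Category.assoc, lift_snd, GrpObj.comp_inv, lift_snd, _root_.inv_inv, Category.id_comp])⟩
    haveI : IsIso Γg.i := inferInstanceAs (IsIso ((Over.forget S).map (lift (GrpQLib.rightAct j) (snd G H)⁻¹)))
    rw [← Γg.i_s]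
    exact MorphismProperty.comp_mem _ _ _ inferInstance ‹_›
  obtain ⟨Y, p, hps, hpf, hpl, sqY⟩ :=
    GrpQLib.exists_quotient_of_thickening Γg c₀ ⟨‹_›, ‹_›⟩ ψ hψ q₀.left sq₀
  haveI := hps
  haveI := hpf
  haveI := hpl
  let b : Y ⟶ S := EffectiveEpi.desc p G.hom (fun g₁ g₂ e => by
    obtain ⟨l, rfl, rfl⟩ := sqY.exists_lift g₁ g₂ e
    rw [Category.assoc, Category.assoc]
    exact congrArg (l ≫ ·) (Γg.t_over.trans Γg.s_over.symm))
  have hb : p ≫ b = G.hom := EffectiveEpi.fac p _ _
  let Q : Over S := Over.mk b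
  let q : G ⟶ Q := Over.homMk p hb
  have hsq : IsPullback ((G ◁ j) ≫ μ[G]) (fst G H) q q := by
    rw [hμ]
    exact IsPullback.of_map (Over.forget S) (Over.OverMorphism.ext sqY.w) sqY
  refine ⟨Q, q, hpf, hps, hpl, hsq, ?_, fun hfl => ?_, fun hsm => ?_⟩
  · refine isSeparated_of_kernelPair (h := b) sqY ?_
    haveI : IsClosedImmersion (G ◁ j).left :=
      MorphismProperty.pullbackMap (P := @IsClosedImmersion) (inferInstanceAs (IsClosedImmersion (𝟙 G.left)))
        ‹IsClosedImmersion j.left› (Category.id_comp G.hom).symm (Over.w j).symm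
    let sh : G ⊗ G ⟶ G ⊗ G := lift (fst G G * snd G G) (fst G G)
    let sh' : G ⊗ G ⟶ G ⊗ G := lift (snd G G) ((snd G G)⁻¹ * fst G G)
    haveI : IsIso sh := ⟨sh', by
        refine CartesianMonoidalCategory.hom_ext _ _ ?_ ?_ <;>
          simp [sh, sh', MonObj.comp_mul, GrpObj.comp_inv, ← _root_.mul_assoc], by
        refine CartesianMonoidalCategory.hom_ext _ _ ?_ ?_ <;>
          simp [sh, sh', MonObj.comp_mul, GrpObj.comp_inv, ← _root_.mul_assoc]⟩
    haveI : IsIso sh.left := inferInstanceAs (IsIso ((Over.forget _).map sh))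
    have e1 : (G ◁ j) ≫ sh = lift (GrpQLib.rightAct j) (fst G H) := by
      refine CartesianMonoidalCategory.hom_ext _ _ ?_ ?_
      · simp [sh, GrpQLib.rightAct, MonObj.comp_mul]
      · simp [sh]
    rw [← MorphismProperty.cancel_right_of_respectsIso @IsClosedImmersion _ (pullback.congrHom hb hb).hom]
    have hci : IsClosedImmersion (lift (GrpQLib.rightAct j) (fst G H)).left := by
      rw [← e1, Over.comp_left]; infer_instance
    refine (congrArg (fun m => IsClosedImmersion m)
      (show _ = (lift (GrpQLib.rightAct j) (fst G H)).left from ?_)).mpr hci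
    apply pullback.hom_ext
    · exact (Category.assoc _ _ _).trans (((congrArg _ (by simp [pullback.congrHom])).trans
        (pullback.lift_fst _ _ _)).trans (congrArg CommaMorphism.left (lift_fst (GrpQLib.rightAct j) (fst G H))).symm)
    · exact (Category.assoc _ _ _).trans (((congrArg _ (by simp [pullback.congrHom])).trans
        (pullback.lift_snd _ _ _)).trans (congrArg CommaMorphism.left (lift_snd (GrpQLib.rightAct j) (fst G H))).symm)
  · haveI : Flat (p ≫ b) := by rw [hb]; infer_instance
    exact FlatLocal.flat_of_comp p b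
  · exact AlgSpLib.smooth_of_comp_fppf p b (by rw [hb]; exact hsm)

end Groth.Agent.GrpQ26
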