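import Groth.Agent.GrpQ26.Thick
import Groth.Agent.GrpQLib.AffineGroupQuot
import Groth.Agent.HomogDim26.Main
import Groth.Agent.S3039

/-!
# Connected components of quotients of groups over a field
-/

set_option autoImplicit false
set_option backward.isDefEq.respectTransparency.types false
set_option linter.style.haveILetI false
set_option maxHeartbeats 800000

universe u

open CategoryTheory CategoryTheory.Limits MonoidalCategory CartesianMonoidalCategory MonObj GrpObj AlgebraicGeometry
open Groth.Agent.SGA3cLib

noncomputable section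

namespace Groth.Agent.GrpQ26

variable {k : Type u} [Field k]



variable {G H Q : Over (Spec (CommRingCat.of k))} [GrpObj G] [GrpObj H] (j : H ⟶ G) [IsMonHom j] (q : G ⟶ Q)
  [Surjective q.left] [Flat q.left] [LocallyOfFinitePresentation q.left] [LocallyOfFiniteType G.hom]
  [LocallyOfFiniteType Q.hom]

/-- The action of a group on its quotient is transitive. -/
theorem exists_transitive_action (sq : IsPullback ((G ◁ j) ≫ μ[G]) (fst G H) q q) :
    ∃ a : AlgGrp.Action G Q, Surjective (lift a.act (snd G Q)).left := by
  haveI : LocallyOfFinitePresentation G.hom := LocallyOfFinitePresentation.iff_locallyOfFiniteType.2 inferInstance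
  obtain ⟨a, ha⟩ := GrpQLib.exists_action_quotient j q sq.flip
  refine ⟨a, ?_⟩
  let o : 𝟙_ (Over (Spec (CommRingCat.of k))) ⟶ Q := η[G] ≫ q
  have hq : ∀ {T : Over (Spec (CommRingCat.of k))} (h : T ⟶ G), h ≫ q = smulPt a h (toUnit T ≫ o) := fun {T} h => by
    conv_lhs => rw [← ha]
    show h ≫ smulPt a (𝟙 G) (toUnit G ≫ o) = _
    rw [comp_smulPt, Category.comp_id, ← Category.assoc, toUnit_unique (h ≫ toUnit G) (toUnit T)]
  let σ : G ⊗ G ⟶ G ⊗ G := lift (fst G G * snd G G) (snd G G)
  haveI : IsIso σ := ⟨lift (fst G G * (snd G G)⁻¹) (snd G G), by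
      refine CartesianMonoidalCategory.hom_ext _ _ ?_ ?_ <;>
        simp [σ, MonObj.comp_mul, GrpObj.comp_inv], by
      refine CartesianMonoidalCategory.hom_ext _ _ ?_ ?_ <;>
        simp [σ, MonObj.comp_mul, GrpObj.comp_inv]⟩
  have e : (G ◁ q) ≫ lift a.act (snd G Q) = σ ≫ (q ⊗ₘ q) := by
    refine CartesianMonoidalCategory.hom_ext _ _ ?_ ?_
    · rw [Category.assoc, lift_fst, Category.assoc, tensorHom_fst, ← Category.assoc σ, lift_fst, hq,
        mul_smulPt, ← hq, smulPt]
      congr 1
    · rw [Category.assoc, lift_snd, Category.assoc, tensorHom_snd, whiskerLeft_snd, ← Category.assoc σ, lift_snd]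
  haveI : Surjective (q ⊗ₘ q).left :=
    MorphismProperty.pullbackMap (P := @Surjective) ‹Surjective q.left› ‹Surjective q.left› (Over.w q).symm (Over.w q).symm
  haveI : IsIso σ.left := inferInstanceAs (IsIso ((Over.forget _).map σ))
  haveI : Surjective ((G ◁ q).left ≫ (lift a.act (snd G Q)).left) := by
    rw [← Over.comp_left, e, Over.comp_left]; infer_instance
  exact Surjective.of_comp (G ◁ q).left _

/-- The fibres of a quotient map have the dimension of the subgroup. -/
theorem dim_fiber_quotient [LocallyOfFiniteType H.hom] (sq : IsPullback ((G ◁ j) ≫ μ[G]) (fst G H) q q) (x : G.left) :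
    topologicalKrullDim ↥(q.left.fiber (q.left.base x)) = topologicalKrullDim ↥H.left := by
  haveI : LocallyOfFiniteType q.left := inferInstance
  let y := q.left.base x
  let L := G.left.residueField x
  letI : Algebra k L := (DimLib.baseRingHom G.hom x).toAlgebra
  letI : Algebra (Q.left.residueField y) L := (q.left.residueFieldMap x).hom.toAlgebra
  haveI : LocallyOfFiniteType (q.left.fiberToSpecResidueField y) :=
    MorphismProperty.pullback_snd (P := @LocallyOfFiniteType) _ _ inferInstance
  let xb := G.left.fromSpecResidueField x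
  have hk : Spec.map (CommRingCat.ofHom (algebraMap k L)) = xb ≫ G.hom := DimLib.specMap_baseRingHom G.hom x
  have hy : Spec.map (CommRingCat.ofHom (algebraMap (Q.left.residueField y) L)) ≫ Q.left.fromSpecResidueField y =
      xb ≫ q.left := q.left.SpecMap_residueFieldMap_fromSpecResidueField x
  rw [← DimLib.topologicalKrullDim_bc (k := Q.left.residueField y) (q.left.fiberToSpecResidueField y) L,
    ← DimLib.topologicalKrullDim_bc (k := k) H.hom L]
  let e1 := pullbackLeftPullbackSndIso q.left (Q.left.fromSpecResidueField y)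
    (Spec.map (CommRingCat.ofHom (algebraMap (Q.left.residueField y) L)))
  let e2 := (((IsPullback.of_hasPullback (pullback.fst G.hom H.hom) xb).paste_horiz
    (sq.map (Over.forget (Spec (CommRingCat.of k))))).isoPullback)
  let e3 := pullbackSymmetry (pullback.fst G.hom H.hom) xb ≪≫ pullbackRightPullbackFstIso G.hom H.hom xb ≪≫
    pullbackSymmetry (xb ≫ G.hom) H.hom ≪≫ pullback.congrHom (rfl : H.hom = H.hom) hk.symm
  exact (e1 ≪≫ pullback.congrHom rfl hy ≪≫ e2.symm ≪≫ e3).hom.homeomorph.isHomeomorph.topologicalKrullDim_eq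

/-- Connected components of a quotient: irreducible, quasi-compact, of complementary dimension. -/
theorem connectedComponent_quotient [LocallyOfFiniteType H.hom] [QuasiSeparatedSpace Q.left]
    (sq : IsPullback ((G ◁ j) ≫ μ[G]) (fst G H) q q) (x : Q.left) :
    IsIrreducible (connectedComponent x) ∧ IsCompact (connectedComponent x) ∧
      topologicalKrullDim ↥(connectedComponent x) + topologicalKrullDim ↥H.left = topologicalKrullDim ↥G.left := by
  obtain ⟨a, hΦ⟩ := exists_transitive_action j q sq
  obtain ⟨θ, hθ, hθe⟩ := VarietyLib.exists_genericPoints_specializes (η[G].left.base (IsLocalRing.closedPoint k))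
  obtain ⟨ξ, hξ, hξx⟩ := VarietyLib.exists_genericPoints_specializes x
  have hC := S3039.connectedComponent_eq k G Q a hΦ x ξ hξ hξx
  refine ⟨hC ▸ isIrreducible_singleton.closure, ?_, ?_⟩
  · obtain ⟨U, hU, hξU, -⟩ := exists_isAffineOpen_mem_and_subset (U := (⊤ : Q.left.Opens)) (x := ξ) trivial
    obtain ⟨V, hV, heV, -⟩ := exists_isAffineOpen_mem_and_subset (U := (⊤ : G.left.Opens))
      (x := η[G].left.base (IsLocalRing.closedPoint k)) trivial
    let Ω : Set ↥(G ⊗ Q).left := (fst G Q).left.base ⁻¹' V ∩ (snd G Q).left.base ⁻¹' U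
    have hΩ : IsCompact Ω := by
      haveI : IsAffine (V : Scheme.{u}) := hV
      haveI : IsAffine (U : Scheme.{u}) := hU
      let m := pullback.map (V.ι ≫ G.hom) (U.ι ≫ Q.hom) G.hom Q.hom V.ι U.ι (𝟙 _) (by simp) (by simp)
      have : Ω = Set.range m.base := by
        rw [Scheme.Pullback.range_map]
        simp only [Scheme.Opens.range_ι]
        rfl
      rw [this]
      exact isCompact_range m.continuous
    let m' : G ⊗ Q ⟶ Q := smulPt a (fst G Q)⁻¹ (snd G Q)
    refine (hΩ.image m'.left.continuous).of_isClosed_subset isClosed_connectedComponent fun v hv => ?_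
    obtain ⟨ξ', hξ', hξ'v⟩ := VarietyLib.exists_genericPoints_specializes v
    have hξξ : ξ' = ξ := by
      have h := S3039.connectedComponent_eq k G Q a hΦ v ξ' hξ' hξ'v
      rw [← connectedComponent_eq hv, hC] at h
      exact (Inseparable.eq ((inseparable_iff_closure_eq).2 h.symm))
    obtain ⟨w, hw1, hw2, hw3⟩ := exists_orbit_point a hΦ hθ hθe hξ' hξ'v
    let ψ : G ⊗ Q ⟶ G ⊗ Q := lift (fst G Q) a.act
    have h : a.act = smulPt a (fst G Q) (snd G Q) := by
      rw [smulPt, lift_fst_snd, Category.id_comp]
    refine ⟨ψ.left.base w, ⟨?_, ?_⟩, ?_⟩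
    · change (ψ ≫ fst G Q).left.base w ∈ V
      rw [lift_fst]
      change (fst G Q).left.base w ∈ V
      rw [hw1]; exact hθe.mem_open V.isOpen heV
    · change (ψ ≫ snd G Q).left.base w ∈ U
      rw [lift_snd]
      change a.act.left.base w ∈ U
      rw [hw3, hξξ]; exact hξU
    · change (ψ ≫ m').left.base w = v
      have : ψ ≫ m' = snd G Q := by
        simp only [m', comp_smulPt, GrpObj.comp_inv, ψ, lift_fst, lift_snd]
        rw [h, inv_smulPt]
      rw [this]; exact hw2
  · rw [HomogDim26.dim_connectedComponent a hΦ x]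
    haveI : LocallyOfFiniteType q.left := inferInstance
    have hw : q.left ≫ Q.hom = G.hom := Over.w q
    have hp : ∀ (y : Q.left), LocallyOfFiniteType (q.left.fiberToSpecResidueField y) := fun y =>
      MorphismProperty.pullback_snd (P := @LocallyOfFiniteType) _ _ inferInstance
    refine le_antisymm ?_ ?_
    · obtain ⟨ζ, -, hζ⟩ := DimLib.exists_maximal_specializes x
      have hX : topologicalKrullDim Q.left = (DimLib.ptDim Q.hom ζ : WithBot ℕ∞) :=
        le_antisymm (DimLib.topologicalKrullDim_le_of_forall_maximal Q.hom _ fun z hz => by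
          rw [HomogDim26.ptDim_eq_of_maximal a hΦ hz hζ]) (DimLib.ptDim_le_topologicalKrullDim Q.hom ζ)
      obtain ⟨g, hg⟩ := q.left.surjective ζ
      haveI := hp ζ
      rw [hX, ← dim_fiber_quotient j q sq g, hg]
      refine DimLib.add_topologicalKrullDim_le (k := Q.left.residueField ζ) (q.left.fiberToSpecResidueField ζ) _ _
        fun z _ => ?_
      rw [← Nat.cast_add]
      have e := DimLib.ptDim_fiberι Q.hom q.left ζ z
      simp only [hw] at e
      rw [← e]
      exact DimLib.ptDim_le_topologicalKrullDim G.hom _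
    · rw [DimLib.topologicalKrullDim_eq_iSup G.hom]
      refine iSup_le fun g => ?_
      haveI := hp (q.left.base g)
      rw [← dim_fiber_quotient j q sq g]
      have e : DimLib.ptDim G.hom g = DimLib.ptDim Q.hom (q.left.base g) +
          DimLib.ptDim (k := Q.left.residueField (q.left.base g)) (q.left.fiberToSpecResidueField (q.left.base g))
            (q.left.asFiber g) := by
        have := DimLib.ptDim_eq_add_of_mem_fiber Q.hom q.left g
        simp only [hw] at this
        exact this
      rw [e, Nat.cast_add]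
      exact add_le_add (DimLib.ptDim_le_topologicalKrullDim Q.hom _) (DimLib.ptDim_le_topologicalKrullDim _ _)

end Groth.Agent.GrpQ26
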