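import Groth.Prelude.Def_AlgGrp
import Groth.Agent.AlgGrpLib.GeomPoints
import Groth.Agent.SGA3cLib.MonoClosed
import Groth.Agent.FlatMorGeomIrr.Affine
import Mathlib.AlgebraicGeometry.Morphisms.Integral
import Mathlib.FieldTheory.IsAlgClosed.AlgebraicClosure
import Mathlib.FieldTheory.IntermediateField.Adjoin.Basic
import Mathlib.Topology.NoetherianSpace

/-!
# Translates of a dense open subset of an algebraic group over a finite extension

Finitely many points with values in one finite extension move every fibre into a given dense open.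
-/

set_option autoImplicit false
set_option backward.isDefEq.respectTransparency.types false
set_option linter.style.haveILetI false

universe u

open CategoryTheory CategoryTheory.Limits MonoidalCategory CartesianMonoidalCategory AlgebraicGeometry MonObj

noncomputable section

namespace Groth.Agent.GrpQ26

variable {k : Type u} [Field k]

/-- The spectrum of an extension over the base field. -/
abbrev ptF (k : Type u) [Field k] (K : Type u) [Field K] [Algebra k K] : Over (Spec (CommRingCat.of k)) :=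
  Over.mk (Spec.map (CommRingCat.ofHom (algebraMap k K)))

/-- Translation by a point, as a map to the group. -/
abbrev act {G T : Over (Spec (CommRingCat.of k))} [GrpObj G] (g : T ⟶ G) : G ⊗ T ⟶ G :=
  (snd G T ≫ g) * fst G T

theorem comp_act {G T T' : Over (Spec (CommRingCat.of k))} [GrpObj G] (a : T' ⟶ T) (g : T ⟶ G) :
    (G ◁ a) ≫ act g = act (a ≫ g) := by
  simp only [act, MonObj.comp_mul, whiskerLeft_snd_assoc, whiskerLeft_fst]

/-- A point with values in an algebraic extension is defined over a finite subextension. -/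
theorem exists_finite_level {K : Type u} [Field K] [Algebra k K] [Algebra.IsAlgebraic k K]
    {G : Over (Spec (CommRingCat.of k))} [LocallyOfFiniteType G.hom] (g : ptF k K ⟶ G) :
    ∃ E : IntermediateField k K, FiniteDimensional k E ∧ ∀ (L : IntermediateField k K), E ≤ L →
      ∀ (a : ptF k K ⟶ ptF k L), a.left = Spec.map (CommRingCat.ofHom L.val.toRingHom) →
        ∃ g' : ptF k L ⟶ G, a ≫ g' = g := by
  classical
  let p := g.left (IsLocalRing.closedPoint K)
  obtain ⟨U, hU, hpU, -⟩ := exists_isAffineOpen_mem_and_subset (U := ⊤) (x := p) trivial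
  obtain ⟨φ₀, hφ₀⟩ := Spec.map_surjective (hU.fromSpec ≫ G.hom)
  letI := φ₀.hom.toAlgebra
  haveI : LocallyOfFiniteType (Spec.map φ₀) := by rw [hφ₀]; infer_instance
  have hft : RingHom.FiniteType φ₀.hom := (HasRingHomProperty.Spec_iff (P := @LocallyOfFiniteType)).mp inferInstance
  haveI : Algebra.FiniteType k Γ(G.left, U) := hft
  have hr : Set.range g.left ⊆ Set.range hU.fromSpec := by
    rintro _ ⟨x, rfl⟩
    rw [hU.range_fromSpec, Subsingleton.elim (α := PrimeSpectrum K) x (IsLocalRing.closedPoint K)]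
    exact hpU
  let l := IsOpenImmersion.lift hU.fromSpec g.left hr
  obtain ⟨ψ, hψ⟩ := Spec.map_surjective l
  have hl : l ≫ hU.fromSpec = g.left := IsOpenImmersion.lift_fac _ _ _
  have hψk : φ₀ ≫ ψ = CommRingCat.ofHom (algebraMap k K) := Spec.map_injective (by
    rw [Spec.map_comp, hψ, hφ₀, ← Category.assoc, hl]
    exact Over.w g)
  let ψ' : Γ(G.left, U) →ₐ[k] K :=
    { toRingHom := ψ.hom, commutes' := fun r => congrArg (fun f => f.hom r) hψk }
  obtain ⟨σ, hσ⟩ := Algebra.FiniteType.out (R := k) (A := Γ(G.left, U))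
  refine ⟨IntermediateField.adjoin k (↑(σ.image ψ') : Set K), IntermediateField.finiteDimensional_adjoin
    (fun x _ => Algebra.IsIntegral.isIntegral x), fun L hL a ha => ?_⟩
  have hran : ψ'.range ≤ L.toSubalgebra := by
    rw [← Algebra.map_top, ← hσ, AlgHom.map_adjoin]
    refine Algebra.adjoin_le ?_
    rintro _ ⟨x, hx, rfl⟩
    exact hL (IntermediateField.subset_adjoin k _ (Finset.mem_coe.2 (Finset.mem_image_of_mem _ hx)))
  let χ : Γ(G.left, U) →ₐ[k] L := ψ'.codRestrict L.toSubalgebra (fun x => hran ⟨x, rfl⟩)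
  refine ⟨Over.homMk (Spec.map (CommRingCat.ofHom χ.toRingHom) ≫ hU.fromSpec) ?_, Over.OverMorphism.ext ?_⟩
  · show (Spec.map _ ≫ hU.fromSpec) ≫ G.hom = Spec.map _
    rw [Category.assoc, ← hφ₀, ← Spec.map_comp]
    congr 1
    ext r
    exact congrArg Subtype.val (χ.commutes r)
  · show a.left ≫ Spec.map _ ≫ hU.fromSpec = g.left
    rw [ha, ← Spec.map_comp_assoc, ← hl, ← hψ]
    rfl

/-- Finite sets of rational points of a group are moved into a dense open by a rational point. -/
theorem exists_move {K : Type u} [Field K] [Algebra k K] [IsAlgClosed K] {G : Over (Spec (CommRingCat.of k))}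
    [GrpObj G] [LocallyOfFiniteType G.hom] (V : G.left.Opens) (hV : Dense (V : Set G.left))
    (ys : Set (ptF k K ⟶ G)) (hys : ys.Finite) :
    ∃ g : ptF k K ⟶ G, ∀ y ∈ ys, (g * y).left (IsLocalRing.closedPoint K) ∈ V := by
  classical
  let Ω := ptF k K
  let ρ : (Ω ⟶ G) → (G ⊗ Ω ⟶ G ⊗ Ω) := fun y => lift (fst G Ω * (snd G Ω ≫ y)) (snd G Ω)
  have hρρ : ∀ y y', ρ y ≫ ρ y' = ρ (y * y') := fun y y' => by
    refine CartesianMonoidalCategory.hom_ext _ _ ?_ ?_
    · simp only [ρ, Category.assoc, lift_fst, MonObj.comp_mul, lift_snd_assoc, _root_.mul_assoc]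
    · simp only [ρ, Category.assoc, lift_snd]
  have hρ1 : ρ 1 = 𝟙 _ := by
    refine CartesianMonoidalCategory.hom_ext _ _ ?_ ?_ <;>
      simp [ρ, MonObj.comp_one]
  haveI : UniversallyOpen Ω.hom := FlatMorGeomIrr.universallyOpen_of_field Ω.hom
  haveI : UniversallyOpen (fst G Ω).left := MorphismProperty.pullback_fst (P := @UniversallyOpen) _ _ ‹_›
  have hV' : Dense ((fst G Ω).left ⁻¹' (V : Set G.left)) := hV.preimage (fst G Ω).left.isOpenMap
  have hopen : IsOpenMap (fst G Ω).left := (fst G Ω).left.isOpenMap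
  have hz : ∀ s : Finset (Ω ⟶ G), Dense (⋂ y ∈ s, (ρ y).left ⁻¹' ((fst G Ω).left ⁻¹' (V : Set G.left))) ∧
      IsOpen (⋂ y ∈ s, (ρ y).left ⁻¹' ((fst G Ω).left ⁻¹' (V : Set G.left))) := fun s => by
    induction s using Finset.induction_on with
    | empty => simp
    | @insert y t _ ih =>
      rw [Finset.set_biInter_insert]
      haveI : IsIso (ρ y) := ⟨ρ y⁻¹, by rw [hρρ, mul_inv_cancel, hρ1], by rw [hρρ, inv_mul_cancel, hρ1]⟩
      haveI : IsIso (ρ y).left := inferInstanceAs (IsIso ((Over.forget _).map (ρ y)))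
      have ho : IsOpen ((ρ y).left ⁻¹' ((fst G Ω).left ⁻¹' (V : Set G.left))) :=
        (V.isOpen.preimage (fst G Ω).left.continuous).preimage (ρ y).left.continuous
      exact ⟨(hV'.preimage (ρ y).left.homeomorph.isOpenMap).inter_of_isOpen_left ih.1 ho, ho.inter ih.2⟩
  haveI : JacobsonSpace (G ⊗ Ω).left :=
    haveI : LocallyOfFiniteType (snd G Ω).left := MorphismProperty.pullback_snd (P := @LocallyOfFiniteType) _ _ ‹_›
    LocallyOfFiniteType.jacobsonSpace (Y := Spec (CommRingCat.of K)) (snd G Ω).left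
  haveI : Nonempty (G ⊗ Ω).left := ⟨(lift (1 : Ω ⟶ G) (𝟙 Ω)).left (IsLocalRing.closedPoint K)⟩
  obtain ⟨c, hc, hcc⟩ := nonempty_inter_closedPoints (hz hys.toFinset).1.nonempty (hz hys.toFinset).2.isLocallyClosed
  haveI : LocallyOfFiniteType (snd G Ω).left := MorphismProperty.pullback_snd (P := @LocallyOfFiniteType) _ _ ‹_›
  let q := (pointEquivClosedPoint (K := K) (snd G Ω).left).symm ⟨c, hcc⟩
  have hq : (pointEquivClosedPoint (K := K) (snd G Ω).left q).1 = c :=
    congrArg Subtype.val ((pointEquivClosedPoint (K := K) (snd G Ω).left).apply_symm_apply _)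
  let γ₀ : Ω ⟶ G ⊗ Ω := Over.homMk q.1 (by
    rw [← Over.w (snd G Ω), ← Category.assoc]
    exact (congrArg (· ≫ Ω.hom) q.2).trans (Category.id_comp _))
  have hγ₀ : γ₀ = lift (γ₀ ≫ fst G Ω) (𝟙 Ω) := by
    refine CartesianMonoidalCategory.hom_ext _ _ (lift_fst _ _).symm ?_
    rw [lift_snd]
    exact Over.OverMorphism.ext q.2
  refine ⟨γ₀ ≫ fst G Ω, fun y hy => ?_⟩
  have h1 := Set.mem_iInter₂.1 hc y (hys.mem_toFinset.2 hy)
  have e : γ₀ ≫ ρ y ≫ fst G Ω = (γ₀ ≫ fst G Ω) * y := by
    conv_lhs => rw [hγ₀]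
    simp only [ρ, lift_fst, MonObj.comp_mul, lift_snd_assoc, Category.id_comp]
  have h2 : γ₀.left (IsLocalRing.closedPoint K) = c := hq
  rw [← e]
  show (fst G Ω).left ((ρ y).left (γ₀.left (IsLocalRing.closedPoint K))) ∈ V
  rw [h2]
  exact h1

/-- The fibres of an integral morphism from a Noetherian scheme are finite sets of closed points. -/
theorem finite_fibre {X Y : Scheme.{u}} (f : X ⟶ Y) [IsIntegralHom f] [IsNoetherian X] (y : Y)
    (hy : IsClosed ({y} : Set Y)) : (f ⁻¹' {y}).Finite ∧ ∀ x ∈ f ⁻¹' {y}, IsClosed ({x} : Set X) := by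
  have hW : IsClosed (f ⁻¹' {y}) := hy.preimage f.continuous
  have hpt : ∀ x ∈ f ⁻¹' {y}, ∀ x', x ⤳ x' → x' = x := fun x hx x' h => by
    have hx' : f x' = y := h.mem_closed hW hx
    exact (SGA3cLib.eq_of_specializes_of_isIntegralHom f h (hx.trans hx'.symm)).symm
  obtain ⟨S, hS, hSc, hSi, hSu⟩ := TopologicalSpace.NoetherianSpace.exists_finite_set_isClosed_irreducible hW
  refine ⟨?_, fun x hx => isClosed_iff_clusterPt.2 ?_⟩
  · rw [hSu]
    refine hS.sUnion fun t ht => ?_
    obtain ⟨ξ, hξ⟩ := QuasiSober.sober (hSi t ht) (hSc t ht)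
    have hξW : ξ ∈ f ⁻¹' {y} := by
      rw [hSu]; exact ⟨t, ht, hξ.mem⟩
    refine (Set.finite_singleton ξ).subset fun x hx => hpt ξ hξW x (hξ.specializes hx)
  · intro x' hx'
    exact hpt x hx x' (specializes_iff_mem_closure.2 (mem_closure_iff_clusterPt.2 hx'))

/-- One finite extension moves all fibres into a dense open. -/
theorem exists_level (G : Over (Spec (CommRingCat.of k))) [GrpObj G] [LocallyOfFiniteType G.hom]
    [QuasiCompact G.hom] (V : G.left.Opens) (hV : Dense (V : Set G.left)) :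
    ∃ (L : IntermediateField k (AlgebraicClosure k)) (_ : FiniteDimensional k L) (gs : Set (ptF k L ⟶ G)),
      ∀ z : G.left, ∃ g ∈ gs, ∀ w : (G ⊗ ptF k L).left, (fst G (ptF k L)).left w = z → (act g).left w ∈ V := by
  classical
  let K := AlgebraicClosure k
  let Ω := ptF k K
  haveI : IsIntegralHom Ω.hom := IsIntegralHom.SpecMap_iff.mpr (algebraMap_isIntegral_iff.mpr inferInstance)
  haveI : IsIntegralHom (fst G Ω).left := MorphismProperty.pullback_fst (P := @IsIntegralHom) _ _ ‹_›
  haveI : LocallyOfFiniteType (snd G Ω).left := MorphismProperty.pullback_snd (P := @LocallyOfFiniteType) _ _ ‹_›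
  haveI : QuasiCompact (snd G Ω).left := MorphismProperty.pullback_snd (P := @QuasiCompact) _ _ ‹_›
  haveI : IsLocallyNoetherian Ω.left := inferInstanceAs (IsLocallyNoetherian (Spec (CommRingCat.of K)))
  haveI : IsLocallyNoetherian (G ⊗ Ω).left := LocallyOfFiniteType.isLocallyNoetherian (snd G Ω).left
  haveI : CompactSpace (G ⊗ Ω).left := QuasiCompact.compactSpace_of_compactSpace (Y := Spec (CommRingCat.of K)) (snd G Ω).left
  haveI : IsNoetherian (G ⊗ Ω).left := ⟨⟩
  haveI : CompactSpace G.left := QuasiCompact.compactSpace_of_compactSpace G.hom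
  let N : (Ω ⟶ G) → Set G.left := fun g => ((fst G Ω).left '' ((act g).left ⁻¹' (V : Set G.left))ᶜ)ᶜ
  have hN : ∀ g, IsOpen (N g) := fun g => isOpen_compl_iff.mpr
    ((fst G Ω).left.isClosedMap _ (isClosed_compl_iff.mpr (V.isOpen.preimage (act g).left.continuous)))
  haveI : JacobsonSpace G.left := LocallyOfFiniteType.jacobsonSpace G.hom
  have hclosed : ∀ z : G.left, IsClosed ({z} : Set G.left) → ∃ g, z ∈ N g := fun z hz => by
    obtain ⟨hfin, hcl⟩ := finite_fibre (fst G Ω).left z hz
    let sec : ∀ w : (G ⊗ Ω).left, w ∈ (fst G Ω).left ⁻¹' {z} → (Ω ⟶ G) := fun w hw =>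
      Over.homMk (((pointEquivClosedPoint (K := K) (snd G Ω).left).symm ⟨w, hcl w hw⟩).1 ≫ (fst G Ω).left) (by
        rw [Category.assoc, Over.w (fst G Ω), ← Over.w (snd G Ω), ← Category.assoc]
        exact (congrArg (· ≫ Ω.hom) ((pointEquivClosedPoint (K := K) (snd G Ω).left).symm ⟨w, hcl w hw⟩).2).trans
          (Category.id_comp _))
    haveI := hfin.to_subtype
    obtain ⟨g, hg⟩ := exists_move V hV (Set.range fun w : ↑((fst G Ω).left ⁻¹' {z}) => sec w.1 w.2) (Set.finite_range _)
    refine ⟨g, ?_⟩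
    rintro ⟨w, hw, rfl⟩
    refine hw ?_
    have e : lift (sec w rfl) (𝟙 Ω) ≫ act g = g * sec w rfl := by
      simp only [act, MonObj.comp_mul, lift_snd_assoc, lift_fst, Category.id_comp]
    have hpt : (lift (sec w rfl) (𝟙 Ω)).left (IsLocalRing.closedPoint K) = w := by
      let q := (pointEquivClosedPoint (K := K) (snd G Ω).left).symm ⟨w, hcl w rfl⟩
      have hq : (pointEquivClosedPoint (K := K) (snd G Ω).left q).1 = w :=
        congrArg Subtype.val ((pointEquivClosedPoint (K := K) (snd G Ω).left).apply_symm_apply _)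
      have he : (lift (sec w rfl) (𝟙 Ω)).left = q.1 := by
        apply pullback.hom_ext
        · exact congrArg CommaMorphism.left (lift_fst (sec w rfl) (𝟙 Ω))
        · exact (congrArg CommaMorphism.left (lift_snd (sec w rfl) (𝟙 Ω))).trans q.2.symm
      rw [he]
      exact hq
    show (act g).left w ∈ V
    rw [← hpt]
    show ((lift (sec w rfl) (𝟙 Ω)) ≫ act g).left (IsLocalRing.closedPoint K) ∈ V
    rw [e]
    exact hg _ ⟨⟨w, rfl⟩, rfl⟩
  have hcov : ∀ z : G.left, ∃ g, z ∈ N g := fun z => by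
    by_contra hne
    push Not at hne
    obtain ⟨c, hc, hcc⟩ := nonempty_inter_closedPoints (Z := (⋃ g, N g)ᶜ)
      ⟨z, fun h => by obtain ⟨g, hg⟩ := Set.mem_iUnion.1 h; exact hne g hg⟩
      ((isOpen_iUnion hN).isClosed_compl.isLocallyClosed)
    obtain ⟨g, hg⟩ := hclosed c hcc
    exact hc (Set.mem_iUnion.2 ⟨g, hg⟩)
  obtain ⟨σ, hσ⟩ := isCompact_univ.elim_finite_subcover N hN fun z _ => Set.mem_iUnion.2 (hcov z)
  choose E hE hEL using fun g : Ω ⟶ G => exists_finite_level g
  let L : IntermediateField k K := ⨆ g : σ, E g.1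
  haveI : ∀ g : σ, FiniteDimensional k (E g.1) := fun g => hE g.1
  haveI : FiniteDimensional k L := IntermediateField.finiteDimensional_iSup_of_finite
  let a : Ω ⟶ ptF k L := Over.homMk (Spec.map (CommRingCat.ofHom L.val.toRingHom)) (by
    simp only [Over.mk_hom, ← Spec.map_comp, ← CommRingCat.ofHom_comp]
    congr 2)
  choose g' hg' using fun g : σ => hEL g.1 L (le_iSup (fun g : σ => E g.1) g) a rfl
  refine ⟨L, inferInstance, Set.range g', fun z => ?_⟩
  obtain ⟨g, hg, hzg⟩ := Set.mem_iUnion₂.1 (hσ (Set.mem_univ z))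
  refine ⟨g' ⟨g, hg⟩, ⟨_, rfl⟩, fun w hw => ?_⟩
  haveI : Surjective a.left := ⟨fun x => ⟨IsLocalRing.closedPoint K, Subsingleton.elim (α := PrimeSpectrum L) _ _⟩⟩
  haveI : Surjective (G ◁ a).left :=
    MorphismProperty.pullbackMap (P := @Surjective) (inferInstanceAs (Surjective (𝟙 G.left))) ‹Surjective a.left›
      (Category.id_comp G.hom).symm (Over.w a).symm
  obtain ⟨w', rfl⟩ := (G ◁ a).left.surjective w
  have h1 : (fst G Ω).left w' = z := by
    rw [← hw, ← Scheme.Hom.comp_apply, ← Over.comp_left, whiskerLeft_fst]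
  have h2 : (act g).left w' ∈ V := by
    by_contra h
    exact hzg ⟨w', h, h1⟩
  rw [← Scheme.Hom.comp_apply, ← Over.comp_left, comp_act, hg']
  exact h2

end Groth.Agent.GrpQ26
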