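import Groth.Agent.AlgGrpLib.HomogQuot
import Groth.Agent.AlgSpLib.DescendOpen
import Groth.Agent.AlgSpLib.SheafDescent
import Groth.Agent.GrpQ26.Level
import Groth.Agent.Stk19b.FlfQuot
import Groth.Agent.GrpdLib.FppfQuot
import Groth.Agent.FlatMorStrat.Noetherian

/-!
# Quotients of algebraic groups over arbitrary fields

The quotient space becomes a scheme after a finite extension and descends by the quotient by a finite
locally free groupoid whose orbits lie in affine opens.
-/

set_option autoImplicit false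
set_option backward.isDefEq.respectTransparency.types false
set_option backward.isDefEq.respectTransparency false
set_option maxHeartbeats 800000
set_option linter.style.haveILetI false

universe u

open CategoryTheory CategoryTheory.Limits MonoidalCategory CartesianMonoidalCategory MonObj AlgebraicGeometry AlgSp
open Groth.Agent.AlgSpLib

noncomputable section

namespace Groth.Agent.GrpQ26

section Generic

variable {S : Scheme.{u}} {R U : Over S} {F : Sp S}

/-- A locally surjective map is the quotient by its kernel pair. -/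
theorem isIso_desc_of_kernelPair (s t : R ⟶ U) (q : (yon S).obj U ⟶ F) [Sheaf.IsLocallySurjective q]
    (sq : IsPullback ((yon S).map t) ((yon S).map s) q q) : IsIso (quotSpDesc q sq.w.symm) := by
  have : Epi q := Sheaf.epi_of_isLocallySurjective _
  have : IsIso (pullback.lift ((yon S).map t) ((yon S).map s) sq.w : (yon S).obj R ⟶ pullback q q) := by
    have e : pullback.lift ((yon S).map t) ((yon S).map s) sq.w = sq.isoPullback.hom := by
      apply pullback.hom_ext
      · exact (pullback.lift_fst _ _ _).trans sq.isoPullback_hom_fst.symm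
      · exact (pullback.lift_snd _ _ _).trans sq.isoPullback_hom_snd.symm
    rw [e]; infer_instance
  exact isIso_quotSpDesc q sq.w.symm

/-- A map equalised by the kernel pair descends along a locally surjective map. -/
theorem exists_desc_kernelPair (s t : R ⟶ U) (q : (yon S).obj U ⟶ F) [Sheaf.IsLocallySurjective q]
    (sq : IsPullback ((yon S).map t) ((yon S).map s) q q) {Z : Sp S} (g : (yon S).obj U ⟶ Z)
    (hg : (yon S).map s ≫ g = (yon S).map t ≫ g) : ∃ d : F ⟶ Z, q ≫ d = g := by
  haveI := isIso_desc_of_kernelPair s t q sq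
  refine ⟨inv (quotSpDesc q sq.w.symm) ≫ quotSpDesc g hg, ?_⟩
  have h : q ≫ inv (quotSpDesc q sq.w.symm) = quotSpπ _ _ := by
    rw [IsIso.comp_inv_eq, quotSpπ_desc]
  rw [reassoc_of% h, quotSpπ_desc]

/-- Two locally surjective maps with the same kernel pair have isomorphic targets. -/
theorem exists_iso_of_kernelPair {F' : Sp S} (s t : R ⟶ U) (q : (yon S).obj U ⟶ F) [Sheaf.IsLocallySurjective q]
    (sq : IsPullback ((yon S).map t) ((yon S).map s) q q) (q' : (yon S).obj U ⟶ F') [Sheaf.IsLocallySurjective q']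
    (sq' : IsPullback ((yon S).map t) ((yon S).map s) q' q') : ∃ e : F ≅ F', q ≫ e.hom = q' := by
  haveI := isIso_desc_of_kernelPair s t q sq
  haveI := isIso_desc_of_kernelPair s t q' sq'
  refine ⟨(asIso (quotSpDesc q sq.w.symm)).symm ≪≫ asIso (quotSpDesc q' sq'.w.symm), ?_⟩
  have h : q ≫ inv (quotSpDesc q sq.w.symm) = quotSpπ _ _ := by
    rw [IsIso.comp_inv_eq, quotSpπ_desc]
  simp only [Iso.trans_hom, Iso.symm_hom, asIso_inv, asIso_hom]
  rw [reassoc_of% h, quotSpπ_desc]

/-- A scheme with finite locally free map to a sheaf gives the groupoid of its kernel pair; when the classes lie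
in affine opens the sheaf is a scheme. -/
theorem exists_iso_yon_of_finLocFree_cover (ψ : (yon S).obj U ⟶ F) (hsurj : Sheaf.IsLocallySurjective ψ)
    (s t : R ⟶ U) (sq : IsPullback ((yon S).map t) ((yon S).map s) ψ ψ) (hs : Mor2.IsFinLocFree s.left)
    (ht : Mor2.IsFinLocFree t.left)
    (h3 : ∀ Z : Set ↥U.left, IsClosed Z → Z.Nonempty →
      ∃ u ∈ Z, ∃ W : U.left.Opens, IsAffineOpen W ∧ ∀ r : ↥R.left, s.left r = u → t.left r ∈ W) :
    ∃ M : Over S, Nonempty ((yon S).obj M ≅ F) := by
  haveI := hsurj
  have hinj : ∀ {T : Over S} (r r' : T ⟶ R), r ≫ s = r' ≫ s → r ≫ t = r' ≫ t → r = r' := fun r r' e1 e2 =>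
    (yon S).map_injective (sq.hom_ext (by rw [← Functor.map_comp, ← Functor.map_comp, e2])
      (by rw [← Functor.map_comp, ← Functor.map_comp, e1]))
  have hlift : ∀ {T : Over S} (a b : T ⟶ U), (yon S).map a ≫ ψ = (yon S).map b ≫ ψ →
      ∃ r : T ⟶ R, r ≫ t = a ∧ r ≫ s = b := fun a b e => by
    obtain ⟨r, hr⟩ := (yon S).map_surjective (sq.lift _ _ e)
    exact ⟨r, (yon S).map_injective (by rw [Functor.map_comp, hr, sq.lift_fst]),
      (yon S).map_injective (by rw [Functor.map_comp, hr, sq.lift_snd])⟩
  have hcond : ∀ {T : Over S} (r : T ⟶ R), (yon S).map (r ≫ t) ≫ ψ = (yon S).map (r ≫ s) ≫ ψ := fun r => by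
    rw [Functor.map_comp, Functor.map_comp, Category.assoc, Category.assoc, sq.w]
  -- morphisms of schemes into the kernel pair
  have hext : ∀ {T : Scheme.{u}} (α β : T ⟶ R.left), α ≫ s.left = β ≫ s.left → α ≫ t.left = β ≫ t.left → α = β :=
    fun {T} α β e1 e2 => by
      let T' : Over S := Over.mk (α ≫ R.hom)
      let b : T' ⟶ R := Over.homMk β (by
        show β ≫ R.hom = α ≫ R.hom
        rw [← Over.w s, ← Category.assoc, ← e1, Category.assoc])
      exact congrArg CommaMorphism.left (hinj (Over.homMk α : T' ⟶ R) b (Over.OverMorphism.ext e1)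
        (Over.OverMorphism.ext e2))
  obtain ⟨e, het, hes⟩ := hlift (𝟙 U) (𝟙 U) rfl
  obtain ⟨iv, hivt, hivs⟩ := hlift s t (by rw [← Category.id_comp s, ← Category.id_comp t]; exact (hcond (𝟙 R)).symm)
  let P : Over S := Over.mk (pullback.fst s.left t.left ≫ R.hom)
  let α₀ : P ⟶ R := Over.homMk (pullback.fst s.left t.left)
  let β₀ : P ⟶ R := Over.homMk (pullback.snd s.left t.left) (by
    show pullback.snd s.left t.left ≫ R.hom = pullback.fst s.left t.left ≫ R.hom
    conv_lhs => rw [← Over.w t, ← Category.assoc, ← pullback.condition]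
    rw [Category.assoc, Over.w s])
  have h₀ : α₀ ≫ s = β₀ ≫ t := Over.OverMorphism.ext pullback.condition
  obtain ⟨c, hct, hcs⟩ := hlift (α₀ ≫ t) (β₀ ≫ s) (by rw [hcond α₀, h₀, hcond β₀])
  have hcs' : c.left ≫ s.left = pullback.snd s.left t.left ≫ s.left := congrArg CommaMorphism.left hcs
  have hct' : c.left ≫ t.left = pullback.fst s.left t.left ≫ t.left := congrArg CommaMorphism.left hct
  have hes' : e.left ≫ s.left = 𝟙 U.left := congrArg CommaMorphism.left hes
  have het' : e.left ≫ t.left = 𝟙 U.left := congrArg CommaMorphism.left het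
  have his' : iv.left ≫ s.left = t.left := congrArg CommaMorphism.left hivs
  have hit' : iv.left ≫ t.left = s.left := congrArg CommaMorphism.left hivt
  let Gr : Grpd.GroupoidScheme S :=
    { U := U.left
      R := R.left
      pU := U.hom
      pR := R.hom
      s := s.left
      t := t.left
      e := e.left
      i := iv.left
      c := c.left
      s_over := Over.w s
      t_over := Over.w t
      comp_s := fun α β h => by rw [Category.assoc, hcs', pullback.lift_snd_assoc]
      comp_t := fun α β h => by rw [Category.assoc, hct', pullback.lift_fst_assoc]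
      assoc := fun α β δ h₁ h₂ => by
        apply hext <;>
          simp only [Category.assoc, hcs', hct', pullback.lift_snd_assoc, pullback.lift_fst_assoc]
      e_s := hes'
      e_t := het'
      comp_e := fun α => by
        apply hext <;>
          simp only [Category.assoc, hcs', hct', hes', het', pullback.lift_snd_assoc, pullback.lift_fst_assoc,
            Category.comp_id]
      e_comp := fun α => by
        apply hext <;>
          simp only [Category.assoc, hcs', hct', hes', het', pullback.lift_snd_assoc, pullback.lift_fst_assoc,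
            Category.comp_id]
      i_s := his'
      i_t := hit'
      comp_i := fun α => by
        apply hext <;>
          simp only [Category.assoc, hcs', hct', hes', het', his', hit', pullback.lift_snd_assoc,
            pullback.lift_fst_assoc, Category.comp_id]
      i_comp := fun α => by
        apply hext <;>
          simp only [Category.assoc, hcs', hct', hes', het', his', hit', pullback.lift_snd_assoc,
            pullback.lift_fst_assoc, Category.comp_id] }
  have heq : IsEqvRel s t := by
    refine ⟨fun T r r' e2 e1 => hinj r r' e1 e2, fun T => ⟨fun a => hlift a a rfl, ?_, ?_⟩⟩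
    · rintro a b ⟨r, rfl, rfl⟩
      exact hlift _ _ (hcond r).symm
    · rintro a b d ⟨r, rfl, h⟩ ⟨r', h', rfl⟩
      exact hlift _ _ ((hcond r).trans (by rw [h, ← h', hcond r']))
  haveI : IsFinite Gr.s := hs.1
  haveI : Flat Gr.s := hs.2.1
  haveI : LocallyOfFinitePresentation Gr.s := hs.2.2
  haveI := Stk19b.FlfQuot.mono_j_of_isEqvRel Gr heq
  obtain ⟨M, m, hm, hmsurj, hmsq, -⟩ := Stk19b.FlfQuot.exists_quotient Gr (Stk19b.FlfQuot.orbitsInAffines_of_closed Gr h3)
  let m' : U ⟶ M := Over.homMk m.left (Over.w m)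
  have sqm : IsPullback t s m' m' := IsPullback.of_map (Over.forget S) (Over.OverMorphism.ext hmsq.w) hmsq
  haveI : Flat m'.left := hm.2.1
  haveI : LocallyOfFinitePresentation m'.left := hm.2.2
  haveI : Surjective m'.left := hmsurj
  haveI : Sheaf.IsLocallySurjective ((yon S).map m') :=
    isLocallySurjective_of_repWith ((repWith_yon_map_iff _ m').2 inferInstance)
      ((repWith_yon_map_iff _ m').2 inferInstance) ((repWith_yon_map_iff _ m').2 inferInstance)
  obtain ⟨eq', -⟩ := exists_iso_of_kernelPair s t ((yon S).map m') (sqm.map (yon S)) ψ sq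
  exact ⟨M, ⟨eq'⟩⟩

end Generic

section Base

variable {S : Scheme.{u}} {F : Sp S}

/-- The projection of the product with a scheme is a base change of its structure map. -/
theorem repWith_prod_fst {P : MorphismProperty Scheme.{u}} [P.IsStableUnderBaseChange] (T : Over S) (hT : P T.hom) :
    RepWith P (prod.fst : F ⨯ (yon S).obj T ⟶ F) :=
  MorphismProperty.relative.of_exists fun V g =>
    ⟨V ⊗ T, prod.lift ((yon S).map (fst V T) ≫ g) ((yon S).map (snd V T)), fst V T,
      (isPullback_chart_prod g (fst V T) (snd V T) (IsPullback.of_hasPullback V.hom T.hom)).flip,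
      MorphismProperty.pullback_fst (P := P) V.hom T.hom hT⟩

theorem ofPt_id_injective (U : Over S) : Function.Injective (Points.ofPt (𝟙 ((yon S).obj U))) := fun a b h => by
  rw [Points.ofPt_eq_map_ofScheme, Points.ofPt_eq_map_ofScheme, Points.map_id, Points.map_id] at h
  exact (Points.schemeEquiv U).injective h

end Base

section Main

open AlgGrpLib HomogQuot

variable {k : Type u} [Field k] {G H : Over (Spec (CommRingCat.of k))} [GrpObj G] [GrpObj H]

/-- The quotient of an algebraic group by a closed subgroup is a scheme, over any field. -/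
theorem exists_quotient [LocallyOfFiniteType G.hom] [QuasiCompact G.hom] (i : H ⟶ G) [IsMonHom i]
    [IsClosedImmersion i.left] :
    ∃ (Q : Over (Spec (CommRingCat.of k))) (q : G ⟶ Q), LocallyOfFiniteType Q.hom ∧ QuasiCompact Q.hom ∧
      Surjective q.left ∧ Flat q.left ∧ LocallyOfFinitePresentation q.left ∧
      IsPullback (fst G H) ((G ◁ i) ≫ μ[G]) q q := by
  classical
  haveI : Mono i := HomogQuot.mono_of_left i
  haveI : LocallyOfFiniteType H.hom := by rw [← Over.w i]; infer_instance
  haveI : QuasiCompact H.hom := by rw [← Over.w i]; infer_instance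
  haveI : Flat H.hom := GrpdLib.flat_to_field H.hom k (Iso.refl _)
  haveI : LocallyOfFinitePresentation H.hom := LocallyOfFinitePresentation.iff_locallyOfFiniteType.2 inferInstance
  haveI : IsSeparated G.hom := SGA3xLib.isSeparated_of_grpObj G
  haveI : LocallyOfFinitePresentation G.hom := LocallyOfFinitePresentation.iff_locallyOfFiniteType.2 inferInstance
  haveI : IsLocallyNoetherian G.left := LocallyOfFiniteType.isLocallyNoetherian G.hom
  haveI : CompactSpace G.left := QuasiCompact.compactSpace_of_compactSpace G.hom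
  haveI : IsNoetherian G.left := ⟨⟩
  let S := Spec (CommRingCat.of k)
  let R : Over S := G ⊗ H
  let s : R ⟶ G := fst G H
  let t : R ⟶ G := GrpQLib.rightAct i
  have hR : IsEqvRel s t := HomogQuot.isEqvRel i
  haveI : Flat s.left := MorphismProperty.pullback_fst (P := @Flat) _ _ ‹Flat H.hom›
  haveI : LocallyOfFinitePresentation s.left :=
    MorphismProperty.pullback_fst (P := @LocallyOfFinitePresentation) _ _ ‹LocallyOfFinitePresentation H.hom›
  haveI : QuasiCompact s.left := MorphismProperty.pullback_fst (P := @QuasiCompact) _ _ ‹QuasiCompact H.hom›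
  haveI : LocallyOfFiniteType R.hom := by rw [← Over.w s]; infer_instance
  haveI : QuasiCompact R.hom := by rw [← Over.w s]; infer_instance
  haveI : LocallyOfFiniteType t.left := by
    haveI : LocallyOfFiniteType (t.left ≫ G.hom) := by rw [Over.w]; infer_instance
    exact locallyOfFiniteType_of_comp t.left G.hom
  let F := quotSp ((yon S).map s) ((yon S).map t)
  let π : (yon S).obj G ⟶ F := quotSpπ _ _
  have hF : IsAlgSpace F := Stk19b.Fppf.isAlgSpace_quotSp_of_isEqvRel hR
  have := etLocal_flat.{u}.localTarget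
  have := etLocal_lfp.{u}.localTarget
  have hπf : RepWith @Flat π := repWith_quotSpπ hR @Flat ‹_›
  have hπl : RepWith @LocallyOfFinitePresentation π := repWith_quotSpπ hR @LocallyOfFinitePresentation ‹_›
  have hπs : RepWith @Surjective π := repWith_surjective_quotSpπ hR
  have sqK : IsPullback ((yon S).map t) ((yon S).map s) π π := isPullback_quotSpπ (isEqvRelSp_yon hR)
  have hqs : IsQuasiSeparatedSp F := by
    have : Sheaf.IsLocallySurjective (prod.map π π) :=
      isLocallySurjective_of_repWith (repWith_prod_map hπf hπf) (repWith_prod_map hπl hπl) (repWith_prod_map hπs hπs)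
    refine repWith_of_isLocallySurjective hF.diag (prod.map π π) (isPullback_diag_prod_map sqK) _ ?_
    refine repWith_prod_lift t s ?_
    let l := pullback.lift t.left s.left ((Over.w t).trans (Over.w s).symm)
    haveI : QuasiCompact (l ≫ pullback.fst G.hom G.hom ≫ G.hom) := by
      rw [pullback.lift_fst_assoc, Over.w]; infer_instance
    exact QuasiCompact.of_comp l (pullback.fst G.hom G.hom ≫ G.hom)
  obtain ⟨G₀, k₀, hk₀, hdense, -⟩ := exists_dense_scheme hF (isDecent_of_qsep hF hqs)
  -- a dense affine open subspace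
  haveI : IsOpenImmersion (hk₀.1.snd π).left := hk₀.property_snd π
  haveI : Surjective (hk₀.1.fst' π).left := hπs.property _ _ _ (hk₀.1.isPullback' π).flip
  haveI : Flat (hk₀.1.fst' π).left := hπf.property _ _ _ (hk₀.1.isPullback' π).flip
  haveI : LocallyOfFinitePresentation (hk₀.1.fst' π).left := hπl.property _ _ _ (hk₀.1.isPullback' π).flip
  haveI : LocallyOfFinitePresentation G₀.hom := lfp_of_comp_fppf (hk₀.1.fst' π).left G₀.hom (by
    have h : (hk₀.1.fst' π).left ≫ G₀.hom = (hk₀.1.snd π).left ≫ G.hom := (Over.w _).trans (Over.w _).symm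
    rw [h]; infer_instance)
  haveI : CompactSpace (hk₀.1.pullback π).left :=
    ⟨(hk₀.1.snd π).left.isOpenEmbedding.isEmbedding.isCompact_iff.2 (TopologicalSpace.NoetherianSpace.isCompact _)⟩
  haveI : CompactSpace G₀.left :=
    ⟨by rw [← (hk₀.1.fst' π).left.surjective.range_eq]; exact isCompact_range (hk₀.1.fst' π).left.continuous⟩
  haveI : LocallyOfFiniteType G₀.hom := inferInstance
  haveI : IsLocallyNoetherian G₀.left := LocallyOfFiniteType.isLocallyNoetherian G₀.hom
  haveI : IsNoetherian G₀.left := ⟨⟩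
  obtain ⟨U₀, hU₀, -, hgen⟩ := FlatMorStrat.exists_affine_dense G₀.left
  let A : Over S := Over.mk (U₀.ι ≫ G₀.hom)
  let ιA : A ⟶ G₀ := Over.homMk U₀.ι
  haveI : IsAffine A.left := hU₀
  let u₀ : (yon S).obj A ⟶ F := (yon S).map ιA ≫ k₀
  have hu₀ : RepWith @IsOpenImmersion u₀ :=
    RepWith.comp ((repWith_yon_map_iff _ ιA).2 (inferInstanceAs (IsOpenImmersion U₀.ι))) hk₀
  have hUdense : Dense (Set.range (Points.ofPt u₀)) := by
    have h1 : DenseRange (Points.ofPt k₀) := by
      refine hdense.mono ?_
      rintro _ ⟨x, rfl⟩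
      obtain ⟨x, rfl⟩ := (Points.schemeEquiv G₀).surjective x
      exact ⟨x, Points.ofPt_eq_map_ofScheme _ _⟩
    have h2 : Dense (U₀ : Set G₀.left) := fun z => by
      obtain ⟨y, hy, hyz⟩ := hgen z
      exact closure_mono (Set.singleton_subset_iff.mpr hy) hyz.mem_closure
    refine (h1.dense_image (Points.continuous_ofPt _) h2).mono ?_
    rintro _ ⟨x, hx, rfl⟩
    exact ⟨⟨x, hx⟩, ofPt_map ιA k₀ _⟩
  have sqA := hu₀.1.isPullback' π
  let prA := hu₀.1.fst' π
  let jA := hu₀.1.snd π
  haveI : IsOpenImmersion jA.left := hu₀.property_snd π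
  have hV : Dense (jA.left.opensRange : Set G.left) := by
    refine (hUdense.preimage (isOpenMap_ofPt_of_flat π hπf hπl)).mono ?_
    rintro z ⟨a, ha⟩
    obtain ⟨r, -, hr⟩ := (ofPt_eq_ofPt_iff sqA a z).1 ha
    exact ⟨r, hr⟩
  obtain ⟨L, hL, gs, hgs⟩ := exists_level G jA.left.opensRange hV
  haveI := hL
  let T : Over S := ptF k L
  haveI : IsAffine T.left := inferInstanceAs (IsAffine (Spec (CommRingCat.of L)))
  haveI : IsFinite T.hom := (IsFinite.SpecMap_iff _).mpr (RingHom.finite_algebraMap.mpr inferInstance)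
  haveI : Flat T.hom := GrpdLib.flat_to_field T.hom k (Iso.refl _)
  haveI : LocallyOfFinitePresentation T.hom := LocallyOfFinitePresentation.iff_locallyOfFiniteType.2 inferInstance
  haveI : Surjective T.hom := ⟨fun y => ⟨IsLocalRing.closedPoint L, Subsingleton.elim (α := PrimeSpectrum k) _ _⟩⟩
  -- the base change of the quotient
  let F' : Sp S := F ⨯ (yon S).obj T
  let π' : (yon S).obj (G ⊗ T) ⟶ F' := prod.lift ((yon S).map (fst G T) ≫ π) ((yon S).map (snd G T))
  have sqπ : IsPullback ((yon S).map (fst G T)) π' π (prod.fst : F' ⟶ F) :=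
    isPullback_chart_prod π (fst G T) (snd G T) (IsPullback.of_hasPullback G.hom T.hom)
  let u₁ : (yon S).obj (A ⊗ T) ⟶ F' := prod.lift ((yon S).map (fst A T) ≫ u₀) ((yon S).map (snd A T))
  have squ : IsPullback ((yon S).map (fst A T)) u₁ u₀ (prod.fst : F' ⟶ F) :=
    isPullback_chart_prod u₀ (fst A T) (snd A T) (IsPullback.of_hasPullback A.hom T.hom)
  have hu₁ : RepWith @IsOpenImmersion u₁ := RepWith.baseChange squ hu₀
  have hπ'f : RepWith @Flat π' := RepWith.baseChange sqπ hπf
  have hπ'l : RepWith @LocallyOfFinitePresentation π' := RepWith.baseChange sqπ hπl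
  have hπ's : RepWith @Surjective π' := RepWith.baseChange sqπ hπs
  haveI : Sheaf.IsLocallySurjective π' := isLocallySurjective_of_repWith hπ'f hπ'l hπ's
  haveI : Epi π' := Sheaf.epi_of_isLocallySurjective _
  let s' : R ⊗ T ⟶ G ⊗ T := s ▷ T
  let t' : R ⊗ T ⟶ G ⊗ T := t ▷ T
  have hw' : (yon S).map t' ≫ π' = (yon S).map s' ≫ π' := by
    apply Limits.prod.hom_ext
    · simp only [π', Category.assoc, prod.lift_fst]
      rw [← Functor.map_comp_assoc, ← Functor.map_comp_assoc, whiskerRight_fst, whiskerRight_fst,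
        Functor.map_comp_assoc, Functor.map_comp_assoc, sqK.w]
    · simp only [π', Category.assoc, prod.lift_snd]
      rw [← Functor.map_comp, ← Functor.map_comp, whiskerRight_snd, whiskerRight_snd]
  have sqK' : IsPullback ((yon S).map t') ((yon S).map s') π' π' := by
    refine isPullback_of_yon hw' fun V x y e => ?_
    obtain ⟨x, rfl⟩ := (yon S).map_surjective x
    obtain ⟨y, rfl⟩ := (yon S).map_surjective y
    have e1 : (yon S).map (x ≫ fst G T) ≫ π = (yon S).map (y ≫ fst G T) ≫ π := by
      simpa only [π', Category.assoc, prod.lift_fst, Functor.map_comp] using congrArg (· ≫ prod.fst) e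
    have e2 : x ≫ snd G T = y ≫ snd G T := (yon S).map_injective (by
      simpa only [π', Category.assoc, prod.lift_snd, Functor.map_comp] using congrArg (· ≫ prod.snd) e)
    obtain ⟨r, hr⟩ := (yon S).map_surjective (sqK.lift _ _ e1)
    have r1 : r ≫ t = x ≫ fst G T := (yon S).map_injective (by rw [Functor.map_comp, hr, sqK.lift_fst])
    have r2 : r ≫ s = y ≫ fst G T := (yon S).map_injective (by rw [Functor.map_comp, hr, sqK.lift_snd])
    refine ⟨(yon S).map (lift r (x ≫ snd G T)), ⟨?_, ?_⟩, fun m hm => ?_⟩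
    · rw [← Functor.map_comp]
      congr 1
      exact CartesianMonoidalCategory.hom_ext _ _ (by simp [t', r1]) (by simp [t'])
    · rw [← Functor.map_comp]
      congr 1
      exact CartesianMonoidalCategory.hom_ext _ _ (by simp [s', r2]) (by simp [s', e2])
    · obtain ⟨m, rfl⟩ := (yon S).map_surjective m
      obtain ⟨hm1, hm2⟩ := hm
      rw [← Functor.map_comp] at hm1 hm2
      have m1 := (yon S).map_injective hm1
      have m2 := (yon S).map_injective hm2
      congr 1
      refine CartesianMonoidalCategory.hom_ext _ _ ?_ ?_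
      · rw [lift_fst]
        refine hR.injective _ _ _ ?_ ?_
        · rw [r1, ← m1]; simp [t']
        · rw [r2, ← m2]; simp [s']
      · rw [lift_snd, ← m1]; simp [t']
  -- translations
  let tr : (T ⟶ G) → (G ⊗ T ⟶ G ⊗ T) := fun g => lift (act g) (snd G T)
  have htr : ∀ g g', tr g ≫ tr g' = tr (g' * g) := fun g g' => by
    refine CartesianMonoidalCategory.hom_ext _ _ ?_ ?_
    · simp only [tr, act, Category.assoc, lift_fst, MonObj.comp_mul, lift_snd_assoc, _root_.mul_assoc]
    · simp only [tr, Category.assoc, lift_snd]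
  have htr1 : tr 1 = 𝟙 _ := by
    refine CartesianMonoidalCategory.hom_ext _ _ ?_ ?_
    · simp only [tr, act, lift_fst, MonObj.comp_one, _root_.one_mul, Category.id_comp]
    · simp only [tr, lift_snd, Category.id_comp]
  have hcond : ∀ g, (yon S).map s' ≫ (yon S).map (tr g) ≫ π' = (yon S).map t' ≫ (yon S).map (tr g) ≫ π' := by
    intro g
    let r : R ⊗ T ⟶ R ⊗ T :=
      lift (lift ((snd R T ≫ g) * (fst R T ≫ fst G H)) (fst R T ≫ snd G H)) (snd R T)
    have h1 : r ≫ s' = s' ≫ tr g := by
      refine CartesianMonoidalCategory.hom_ext _ _ ?_ ?_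
      · simp [r, s', s, tr, act, MonObj.comp_mul]
      · simp [r, s', tr]
    have h2 : r ≫ t' = t' ≫ tr g := by
      refine CartesianMonoidalCategory.hom_ext _ _ ?_ ?_
      · simp [r, t', t, tr, act, MonObj.comp_mul, GrpQLib.comp_rightAct, GrpQLib.rightAct, _root_.mul_assoc]
      · simp [r, t', tr]
    rw [← Functor.map_comp_assoc, ← Functor.map_comp_assoc, ← h1, ← h2, Functor.map_comp_assoc,
      Functor.map_comp_assoc, ← hw']
  choose τ hτ using fun g : T ⟶ G => exists_desc_kernelPair s' t' π' sqK' _ (hcond g)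
  have hττ : ∀ g g', τ g ≫ τ g' = τ (g' * g) := fun g g' => by
    rw [← cancel_epi π', reassoc_of% (hτ g), hτ, hτ, ← Functor.map_comp_assoc, htr]
  have hτ1 : τ 1 = 𝟙 F' := by
    rw [← cancel_epi π', hτ, htr1, (yon S).map_id, Category.id_comp, Category.comp_id]
  have hτi : ∀ g, IsIso (τ g) := fun g =>
    ⟨τ g⁻¹, by rw [hττ, inv_mul_cancel, hτ1], by rw [hττ, mul_inv_cancel, hτ1]⟩
  let f : (T ⟶ G) → ((yon S).obj (A ⊗ T) ⟶ F') := fun g => u₁ ≫ τ g⁻¹
  have hf : ∀ g, RepWith @IsOpenImmersion (f g) := fun g =>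
    haveI := hτi g⁻¹
    RepWith.comp hu₁ (repWith_of_isIso _ _)
  have hmove : ∀ z : G.left, ∃ g : T ⟶ G, ∀ w : (G ⊗ T).left, (fst G T).left w = z →
      Points.ofPt π' w ∈ Set.range (Points.map (f g)) := fun z => by
    obtain ⟨g, -, hg⟩ := hgs z
    refine ⟨g, fun w hw => ?_⟩
    obtain ⟨p, hp⟩ := hg w hw
    let x := (tr g).left w
    have hx : (fst G T).left x = jA.left p := by
      show (fst G T).left ((tr g).left w) = _
      rw [← Scheme.Hom.comp_apply, ← Over.comp_left, lift_fst]
      exact hp.symm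
    have h1 : Points.map prod.fst (Points.ofPt π' x) = Points.map u₀ (Points.ofScheme A (prA.left p)) := by
      rw [Points.map_ofPt, prod.lift_fst, ofPt_map, hx, ← Points.ofPt_eq_map_ofScheme, ← ofPt_map prA u₀ p,
        ← ofPt_map jA π p, sqA.w]
    obtain ⟨y, -, hy⟩ := exists_point_of_isPullback squ h1.symm
    refine ⟨y, ?_⟩
    have h3 : Points.ofPt π' w = Points.map (τ g⁻¹) (Points.ofPt π' x) := by
      rw [Points.map_ofPt]
      have e : π' = ((yon S).map (tr g) ≫ π') ≫ τ g⁻¹ := by
        rw [← hτ g, Category.assoc, hττ, inv_mul_cancel, hτ1, Category.comp_id]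
      conv_lhs => rw [e]
      rw [Category.assoc, ofPt_map]
    rw [h3, ← hy, ← Points.map_comp]
  have hcov : ∀ x : Points F', ∃ g, x ∈ Set.range (Points.map (f g)) := fun x => by
    obtain ⟨w, rfl⟩ := surjective_ofPt π' hπ's x
    obtain ⟨g, hg⟩ := hmove ((fst G T).left w)
    exact ⟨g, hg w rfl⟩
  obtain ⟨Q', ⟨e⟩⟩ := exists_iso_yon_of_openCover f hf hcov
  obtain ⟨q', hq'⟩ := (yon S).map_surjective (π' ≫ e.inv)
  -- the finite locally free map to the quotient
  let ψ : (yon S).obj Q' ⟶ F := e.hom ≫ prod.fst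
  have hψ : ∀ (P : MorphismProperty Scheme.{u}) [P.IsStableUnderBaseChange], P T.hom → RepWith P ψ := fun P _ h =>
    MorphismProperty.RespectsIso.precomp _ e.hom _ (repWith_prod_fst T h)
  have hψf : RepWith @IsFinite ψ := hψ _ ‹_›
  have hψfl : RepWith @Flat ψ := hψ _ ‹_›
  have hψl : RepWith @LocallyOfFinitePresentation ψ := hψ _ ‹_›
  have hψs : RepWith @Surjective ψ := hψ _ ‹_›
  have sqψ := hψf.1.isPullback' ψ
  have hqψ : (yon S).map q' ≫ ψ = (yon S).map (fst G T) ≫ π := by
    rw [hq', Category.assoc, e.inv_hom_id_assoc, prod.lift_fst]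
  have hpt : ∀ w, Points.ofPt (𝟙 ((yon S).obj Q')) (q'.left w) = Points.map e.inv (Points.ofPt π' w) := fun w => by
    rw [Points.map_ofPt, ← hq', ← ofPt_map, Category.comp_id]
  haveI : Surjective q'.left := by
    refine ⟨fun v => ?_⟩
    obtain ⟨w, hw⟩ := surjective_ofPt π' hπ's (Points.map e.hom (Points.ofPt (𝟙 _) v))
    refine ⟨w, ofPt_id_injective Q' ?_⟩
    rw [hpt, hw, ← Points.map_comp, e.hom_inv_id, Points.map_id]
  obtain ⟨M, ⟨eM⟩⟩ := exists_iso_yon_of_finLocFree_cover (R := hψf.1.pullback ψ) ψ
    (isLocallySurjective_of_repWith hψfl hψl hψs) (hψf.1.snd ψ) (hψf.1.fst' ψ) sqψ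
    ⟨hψf.property_snd ψ, hψfl.property _ _ _ sqψ, hψl.property _ _ _ sqψ⟩
    ⟨hψf.property _ _ _ sqψ.flip, hψfl.property _ _ _ sqψ.flip, hψl.property _ _ _ sqψ.flip⟩
    (fun Z _ hne => by
      obtain ⟨u, hu⟩ := hne
      obtain ⟨w₀, rfl⟩ := q'.left.surjective u
      obtain ⟨g, hg⟩ := hmove ((fst G T).left w₀)
      obtain ⟨c, hc⟩ := (yon S).map_surjective (f g ≫ e.inv)
      haveI : IsOpenImmersion c.left := (repWith_yon_map_iff _ c).1 (hc ▸ RepWith.comp (hf g) (repWith_of_isIso _ _))
      haveI : IsAffine (A ⊗ T).left := inferInstanceAs (IsAffine (pullback A.hom T.hom))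
      refine ⟨_, hu, c.left.opensRange, isAffineOpen_opensRange _, fun r hr => ?_⟩
      obtain ⟨w, hw⟩ := q'.left.surjective ((hψf.1.fst' ψ).left r)
      have h1 : Points.ofPt ψ ((hψf.1.fst' ψ).left r) = Points.ofPt ψ (q'.left w₀) :=
        (ofPt_eq_ofPt_iff sqψ _ _).2 ⟨r, rfl, hr⟩
      have h2 : Points.ofPt π ((fst G T).left w) = Points.ofPt π ((fst G T).left w₀) := by
        rw [← ofPt_map, ← ofPt_map, ← hqψ, ofPt_map, ofPt_map, hw, h1]
      obtain ⟨y, hy1, hy2⟩ := exists_point_of_isPullback sqπ
        (x := Points.ofScheme G ((fst G T).left w₀)) (y := Points.ofPt π' w) (by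
        rw [← Points.ofPt_eq_map_ofScheme, ← h2, Points.map_ofPt, prod.lift_fst, ofPt_map])
      obtain ⟨w', rfl⟩ := (Points.schemeEquiv (G ⊗ T)).surjective y
      have hw' : (fst G T).left w' = (fst G T).left w₀ := by
        refine ofPt_id_injective G ?_
        rw [← ofPt_map, Category.comp_id, Points.ofPt_eq_map_ofScheme, Points.ofPt_eq_map_ofScheme, Points.map_id]
        exact hy1
      obtain ⟨z, hz⟩ := hg w' hw'
      obtain ⟨z, rfl⟩ := (Points.schemeEquiv (A ⊗ T)).surjective z
      refine ⟨z, ofPt_id_injective Q' ?_⟩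
      have h4 : Points.ofPt π' w = Points.map (f g) (Points.ofScheme _ z) := by
        rw [← hy2]
        exact (Points.ofPt_eq_map_ofScheme _ _).symm.trans hz.symm
      rw [← hw, hpt, h4, ← ofPt_map, Category.comp_id, hc, ← Points.map_comp, Points.ofPt_eq_map_ofScheme])
  obtain ⟨q, hq⟩ := (yon S).map_surjective (π ≫ eM.inv)
  have sqq : IsPullback (𝟙 _) ((yon S).map q) π eM.hom := by
    refine IsPullback.of_horiz_isIso ⟨?_⟩
    rw [hq, Category.id_comp, Category.assoc, eM.inv_hom_id, Category.comp_id]
  haveI : Surjective q.left := hπs.property _ _ _ sqq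
  haveI : Flat q.left := hπf.property _ _ _ sqq
  haveI : LocallyOfFinitePresentation q.left := hπl.property _ _ _ sqq
  have hμ : (G ◁ i) ≫ μ[G] = t := by
    show _ = fst G H * (snd G H ≫ i)
    rw [Hom.mul_def]; congr 1
  have sqQ : IsPullback (fst G H) ((G ◁ i) ≫ μ[G]) q q := by
    rw [hμ]
    refine IsPullback.flip (IsPullback.of_map (yon S) ?_ ?_)
    · refine (yon S).map_injective ?_
      rw [Functor.map_comp, Functor.map_comp, hq, ← Category.assoc, ← Category.assoc, sqK.w]
    · exact sqK.of_iso (Iso.refl _) (Iso.refl _) (Iso.refl _) eM.symm (by simp [t]) (by simp [s]) (by simp [hq]) (by simp [hq])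
  haveI : LocallyOfFinitePresentation M.hom := lfp_of_comp_fppf q.left M.hom (by rw [Over.w]; infer_instance)
  haveI : QuasiCompact M.hom := by
    haveI : QuasiCompact (q.left ≫ M.hom) := by rw [Over.w]; infer_instance
    exact FlatMorThick.quasiCompact_of_comp_surjective q.left M.hom
  exact ⟨M, q, inferInstance, inferInstance, inferInstance, inferInstance, inferInstance, sqQ⟩

end Main

end Groth.Agent.GrpQ26
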