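import Groth.Agent.GrpQ26.Descend
import Groth.Agent.SGA3cLib.LocNoetherian
import Groth.Agent.FlatMorDVR.FiniteSetAffine

/-!
# Quotients of group schemes locally of finite type over a field

Locally on the quotient space a finite extension suffices; the orbits of the descent groupoid are finite
sets in opens of affine schemes.
-/

set_option autoImplicit false
set_option backward.isDefEq.respectTransparency.types false
set_option backward.isDefEq.respectTransparency false
set_option maxHeartbeats 800000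
set_option linter.style.haveILetI false

universe u

open CategoryTheory CategoryTheory.Limits MonoidalCategory CartesianMonoidalCategory MonObj AlgebraicGeometry AlgSp
open Groth.Agent.AlgSpLib

noncomputable section

namespace Groth.Agent.GrpQ26

/-- A point without proper generalisation. -/
abbrev IsMaxPt {X : Scheme.{u}} (x : X) : Prop := ∀ y, y ⤳ x → y = x

theorem mem_genericPoints_of_isMaxPt {X : Scheme.{u}} {x : X} (hx : IsMaxPt x) : x ∈ genericPoints X := by
  refine ⟨isIrreducible_singleton.closure, fun Z hZ hle => ?_⟩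
  obtain ⟨g, hg⟩ := QuasiSober.sober hZ.closure isClosed_closure
  have h1 : g ⤳ x := hg.specializes (subset_closure (hle (subset_closure rfl)))
  rw [← hx g h1, hg.def]
  exact subset_closure

theorem exists_isMaxPt_specializes {X : Scheme.{u}} (x : X) : ∃ y, IsMaxPt y ∧ y ⤳ x := by
  obtain ⟨g, hg⟩ := QuasiSober.sober (α := X) isIrreducible_irreducibleComponent
    (isClosed_irreducibleComponent (x := x))
  refine ⟨g, fun y hy => ?_, hg.specializes mem_irreducibleComponent⟩
  have hsub : irreducibleComponent x ⊆ closure {y} :=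
    hg.def ▸ closure_minimal (Set.singleton_subset_iff.2 (specializes_iff_mem_closure.1 hy)) isClosed_closure
  have h : closure {y} = irreducibleComponent x :=
    eq_irreducibleComponent isIrreducible_singleton.closure.2 hsub
  exact (hy.antisymm (hg.specializes (h ▸ subset_closure (Set.mem_singleton y)))).eq

theorem isMaxPt_map {X Y : Scheme.{u}} (f : X ⟶ Y) [Flat f] {x : X} (hx : IsMaxPt x) : IsMaxPt (f x) := fun y hy => by
  obtain ⟨x', hx', rfl⟩ := Flat.generalizingMap f hy
  rw [hx x' hx']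

section LocalLevel

variable {k : Type u} [Field k]

/-- Near every point one finite extension moves the fibres into one of given opens, provided these contain all
finite sets of maximal points. -/
theorem exists_local_level (G : Over (Spec (CommRingCat.of k))) [GrpObj G] [LocallyOfFiniteType G.hom]
    (P : G.left.Opens → Prop) (hP : ∀ s : Set G.left, s.Finite → (∀ y ∈ s, IsMaxPt y) → ∃ V, P V ∧ s ⊆ V)
    (z : G.left) :
    ∃ (L : IntermediateField k (AlgebraicClosure k)) (_ : FiniteDimensional k L) (g : ptF k L ⟶ G) (V : G.left.Opens)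
      (N : G.left.Opens), P V ∧ z ∈ N ∧
        ∀ w : (G ⊗ ptF k L).left, (fst G (ptF k L)).left w ∈ N → (act g).left w ∈ V := by
  classical
  let K := AlgebraicClosure k
  let Ω := ptF k K
  haveI : IsIntegralHom Ω.hom := IsIntegralHom.SpecMap_iff.mpr (algebraMap_isIntegral_iff.mpr inferInstance)
  haveI : Flat Ω.hom := GrpdLib.flat_to_field Ω.hom k (Iso.refl _)
  haveI : IsIntegralHom (fst G Ω).left := MorphismProperty.pullback_fst (P := @IsIntegralHom) _ _ ‹_›
  haveI : Flat (fst G Ω).left := MorphismProperty.pullback_fst (P := @Flat) _ _ ‹_›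
  haveI : LocallyOfFiniteType (snd G Ω).left := MorphismProperty.pullback_snd (P := @LocallyOfFiniteType) _ _ ‹_›
  haveI : IsLocallyNoetherian Ω.left := inferInstanceAs (IsLocallyNoetherian (Spec (CommRingCat.of K)))
  haveI : IsLocallyNoetherian (G ⊗ Ω).left := LocallyOfFiniteType.isLocallyNoetherian (snd G Ω).left
  haveI : JacobsonSpace G.left := LocallyOfFiniteType.jacobsonSpace G.hom
  haveI : JacobsonSpace (G ⊗ Ω).left :=
    LocallyOfFiniteType.jacobsonSpace (Y := Spec (CommRingCat.of K)) (snd G Ω).left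
  obtain ⟨c, hcz, hcc⟩ := nonempty_inter_closedPoints (Z := closure {z}) ⟨z, subset_closure rfl⟩
    isClosed_closure.isLocallyClosed
  have hW : IsClosed ((fst G Ω).left ⁻¹' {c}) := IsClosed.preimage (fst G Ω).left.continuous hcc
  have hcl : ∀ w ∈ (fst G Ω).left ⁻¹' {c}, IsClosed ({w} : Set (G ⊗ Ω).left) := fun w hw => by
    refine isClosed_iff_clusterPt.2 fun x hx => ?_
    have hwx : w ⤳ x := specializes_iff_mem_closure.2 (mem_closure_iff_clusterPt.2 hx)
    have hx' : (fst G Ω).left x = c := hwx.mem_closed hW hw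
    exact (SGA3cLib.eq_of_specializes_of_isIntegralHom (fst G Ω).left hwx
      ((Set.mem_singleton_iff.1 hw).trans hx'.symm)).symm
  have hfin : ((fst G Ω).left ⁻¹' {c}).Finite := by
    obtain ⟨U, hU, hcU, -⟩ := exists_isAffineOpen_mem_and_subset (U := ⊤) (x := c) trivial
    haveI : IsAffine (((fst G Ω).left ⁻¹ᵁ U : (G ⊗ Ω).left.Opens) : Scheme.{u}) := hU.preimage (fst G Ω).left
    haveI : IsLocallyNoetherian (((fst G Ω).left ⁻¹ᵁ U : (G ⊗ Ω).left.Opens) : Scheme.{u}) := inferInstance
    haveI : IsNoetherian (((fst G Ω).left ⁻¹ᵁ U : (G ⊗ Ω).left.Opens) : Scheme.{u}) := ⟨⟩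
    haveI : IsIntegralHom ((fst G Ω).left ∣_ U) := inferInstance
    have h := (finite_fibre ((fst G Ω).left ∣_ U) ⟨c, hcU⟩ (by
      rw [show ({⟨c, hcU⟩} : Set (U : Scheme.{u})) = U.ι ⁻¹' {c} from
        Set.ext fun y => ⟨fun h => by rw [Set.mem_singleton_iff.1 h]; rfl, fun h => Subtype.ext h⟩]
      exact IsClosed.preimage U.ι.continuous hcc)).1
    refine (h.image ((fst G Ω).left ⁻¹ᵁ U).ι).subset fun w hw => ?_
    have hwU : w ∈ (fst G Ω).left ⁻¹ᵁ U := by
      show (fst G Ω).left w ∈ U
      rw [Set.mem_singleton_iff.1 hw]; exact hcU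
    refine ⟨⟨w, hwU⟩, ?_, rfl⟩
    show ((fst G Ω).left ∣_ U) ⟨w, hwU⟩ = ⟨c, hcU⟩
    refine Subtype.ext ?_
    show U.ι (((fst G Ω).left ∣_ U) ⟨w, hwU⟩) = c
    rw [← Scheme.Hom.comp_apply, morphismRestrict_ι, Scheme.Hom.comp_apply]
    exact hw
  let sec : ∀ w : (G ⊗ Ω).left, w ∈ (fst G Ω).left ⁻¹' {c} → (Ω ⟶ G) := fun w hw =>
    Over.homMk (((pointEquivClosedPoint (K := K) (snd G Ω).left).symm ⟨w, hcl w hw⟩).1 ≫ (fst G Ω).left) (by
      rw [Category.assoc, Over.w (fst G Ω), ← Over.w (snd G Ω), ← Category.assoc]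
      exact (congrArg (· ≫ Ω.hom) ((pointEquivClosedPoint (K := K) (snd G Ω).left).symm ⟨w, hcl w hw⟩).2).trans
        (Category.id_comp _))
  haveI := hfin.to_subtype
  let ρ : (Ω ⟶ G) → (G ⊗ Ω ⟶ G ⊗ Ω) := fun y => lift (fst G Ω * (snd G Ω ≫ y)) (snd G Ω)
  have hρρ : ∀ y y', ρ y ≫ ρ y' = ρ (y * y') := fun y y' => by
    refine CartesianMonoidalCategory.hom_ext _ _ ?_ ?_
    · simp only [ρ, Category.assoc, lift_fst, MonObj.comp_mul, lift_snd_assoc, _root_.mul_assoc]
    · simp only [ρ, Category.assoc, lift_snd]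
  have hρ1 : ρ 1 = 𝟙 _ := by
    refine CartesianMonoidalCategory.hom_ext _ _ ?_ ?_ <;>
      simp [ρ, MonObj.comp_one]
  haveI : ∀ y, IsIso (ρ y).left := fun y =>
    haveI : IsIso (ρ y) := ⟨ρ y⁻¹, by rw [hρρ, mul_inv_cancel, hρ1], by rw [hρρ, inv_mul_cancel, hρ1]⟩
    inferInstanceAs (IsIso ((Over.forget _).map (ρ y)))
  obtain ⟨ξ, hξ, -⟩ := exists_isMaxPt_specializes
    ((lift (1 : Ω ⟶ G) (𝟙 Ω)).left (IsLocalRing.closedPoint K))
  let ys : Set (Ω ⟶ G) := Set.range fun w : ↑((fst G Ω).left ⁻¹' {c}) => sec w.1 w.2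
  have hys : ys.Finite := Set.finite_range _
  obtain ⟨V, hPV, hV⟩ := hP ((fun y => (ρ y ≫ fst G Ω).left ξ) '' ys) (hys.image _) (by
    rintro _ ⟨y, -, rfl⟩
    exact isMaxPt_map (fst G Ω).left (isMaxPt_map (ρ y).left hξ))
  have hopen : IsOpen (⋂ y ∈ ys, (ρ y ≫ fst G Ω).left ⁻¹' (V : Set G.left)) :=
    hys.isOpen_biInter fun y _ => V.isOpen.preimage (ρ y ≫ fst G Ω).left.continuous
  obtain ⟨d, hd, hdc⟩ := nonempty_inter_closedPoints (Z := ⋂ y ∈ ys, (ρ y ≫ fst G Ω).left ⁻¹' (V : Set G.left))
    ⟨ξ, Set.mem_iInter₂.2 fun y hy => hV ⟨y, hy, rfl⟩⟩ hopen.isLocallyClosed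
  let q := (pointEquivClosedPoint (K := K) (snd G Ω).left).symm ⟨d, hdc⟩
  let γ₀ : Ω ⟶ G ⊗ Ω := Over.homMk q.1 (by
    rw [← Over.w (snd G Ω), ← Category.assoc]
    exact (congrArg (· ≫ Ω.hom) q.2).trans (Category.id_comp _))
  have hγ₀ : γ₀ = lift (γ₀ ≫ fst G Ω) (𝟙 Ω) := by
    refine CartesianMonoidalCategory.hom_ext _ _ (lift_fst _ _).symm ?_
    rw [lift_snd]
    exact Over.OverMorphism.ext q.2
  let g := γ₀ ≫ fst G Ω
  have hg : ∀ y ∈ ys, (g * y).left (IsLocalRing.closedPoint K) ∈ V := fun y hy => by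
    have e : γ₀ ≫ ρ y ≫ fst G Ω = g * y := by
      conv_lhs => rw [hγ₀]
      simp only [g, ρ, lift_fst, MonObj.comp_mul, lift_snd_assoc, Category.id_comp]
    have h2 : γ₀.left (IsLocalRing.closedPoint K) = d :=
      congrArg Subtype.val ((pointEquivClosedPoint (K := K) (snd G Ω).left).apply_symm_apply _)
    rw [← e]
    show (ρ y ≫ fst G Ω).left (γ₀.left (IsLocalRing.closedPoint K)) ∈ V
    rw [h2]
    exact Set.mem_iInter₂.1 hd y hy
  let N₀ : G.left.Opens := ⟨((fst G Ω).left '' ((act g).left ⁻¹' (V : Set G.left))ᶜ)ᶜ, isOpen_compl_iff.mpr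
    ((fst G Ω).left.isClosedMap _ (isClosed_compl_iff.mpr (V.isOpen.preimage (act g).left.continuous)))⟩
  have hc : c ∈ N₀ := by
    rintro ⟨w, hw, hwc⟩
    refine hw ?_
    have e : lift (sec w hwc) (𝟙 Ω) ≫ act g = g * sec w hwc := by
      simp only [act, MonObj.comp_mul, lift_snd_assoc, lift_fst, Category.id_comp]
    have hpt : (lift (sec w hwc) (𝟙 Ω)).left (IsLocalRing.closedPoint K) = w := by
      let q := (pointEquivClosedPoint (K := K) (snd G Ω).left).symm ⟨w, hcl w hwc⟩
      have he : (lift (sec w hwc) (𝟙 Ω)).left = q.1 := by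
        apply pullback.hom_ext
        · exact congrArg CommaMorphism.left (lift_fst (sec w hwc) (𝟙 Ω))
        · exact (congrArg CommaMorphism.left (lift_snd (sec w hwc) (𝟙 Ω))).trans q.2.symm
      rw [he]
      exact congrArg Subtype.val ((pointEquivClosedPoint (K := K) (snd G Ω).left).apply_symm_apply _)
    show (act g).left w ∈ V
    rw [← hpt]
    show ((lift (sec w hwc) (𝟙 Ω)) ≫ act g).left (IsLocalRing.closedPoint K) ∈ V
    rw [e]
    exact hg _ ⟨⟨w, hwc⟩, rfl⟩
  obtain ⟨L, hL, hEL⟩ := exists_finite_level g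
  haveI := hL
  let a : Ω ⟶ ptF k L := Over.homMk (Spec.map (CommRingCat.ofHom L.val.toRingHom)) (by
    simp only [Over.mk_hom, ← Spec.map_comp, ← CommRingCat.ofHom_comp]
    congr 2)
  obtain ⟨g', hg'⟩ := hEL L le_rfl a rfl
  refine ⟨L, hL, g', V, N₀, hPV, (specializes_iff_mem_closure.2 hcz).mem_open N₀.isOpen hc, fun w hw => ?_⟩
  haveI : Surjective a.left := ⟨fun x => ⟨IsLocalRing.closedPoint K, Subsingleton.elim (α := PrimeSpectrum L) _ _⟩⟩
  haveI : Surjective (G ◁ a).left :=
    MorphismProperty.pullbackMap (P := @Surjective) (inferInstanceAs (Surjective (𝟙 G.left))) ‹Surjective a.left›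
      (Category.id_comp G.hom).symm (Over.w a).symm
  obtain ⟨w', rfl⟩ := (G ◁ a).left.surjective w
  have h2 : (act g).left w' ∈ V := by
    by_contra h
    refine hw ⟨w', h, ?_⟩
    rw [← Scheme.Hom.comp_apply, ← Over.comp_left, whiskerLeft_fst]
  rw [← Scheme.Hom.comp_apply, ← Over.comp_left, comp_act, hg']
  exact h2

end LocalLevel

section Main

open AlgGrpLib HomogQuot

variable {k : Type u} [Field k] {G H : Over (Spec (CommRingCat.of k))} [GrpObj G] [GrpObj H]

theorem quasiCompact_lift (i : H ⟶ G) [IsMonHom i] [IsClosedImmersion i.left] :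
    QuasiCompact (pullback.lift (GrpQLib.rightAct i).left (fst G H).left
      ((Over.w (GrpQLib.rightAct i)).trans (Over.w (fst G H)).symm)) := by
  haveI : IsClosedImmersion (G ◁ i).left :=
    MorphismProperty.pullbackMap (P := @IsClosedImmersion) (inferInstanceAs (IsClosedImmersion (𝟙 G.left)))
      ‹IsClosedImmersion i.left› (Category.id_comp G.hom).symm (Over.w i).symm
  let sh : G ⊗ G ⟶ G ⊗ G := lift (fst G G * snd G G) (fst G G)
  let sh' : G ⊗ G ⟶ G ⊗ G := lift (snd G G) ((snd G G)⁻¹ * fst G G)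
  haveI : IsIso sh := ⟨sh', by
      refine CartesianMonoidalCategory.hom_ext _ _ ?_ ?_ <;>
        simp [sh, sh', MonObj.comp_mul, GrpObj.comp_inv, ← _root_.mul_assoc], by
      refine CartesianMonoidalCategory.hom_ext _ _ ?_ ?_ <;>
        simp [sh, sh', MonObj.comp_mul, GrpObj.comp_inv, ← _root_.mul_assoc]⟩
  haveI : IsIso sh.left := inferInstanceAs (IsIso ((Over.forget _).map sh))
  have e : (G ◁ i) ≫ sh = lift (GrpQLib.rightAct i) (fst G H) := by
    refine CartesianMonoidalCategory.hom_ext _ _ ?_ ?_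
    · simp [sh, GrpQLib.rightAct, MonObj.comp_mul]
    · simp [sh]
  have h : QuasiCompact ((G ◁ i) ≫ sh).left := by rw [Over.comp_left]; infer_instance
  rw [e] at h
  exact h

/-- The quotient of a group scheme locally of finite type over a field by a closed subgroup is a scheme. -/
theorem exists_quotient_lft [LocallyOfFiniteType G.hom] (i : H ⟶ G) [IsMonHom i] [IsClosedImmersion i.left] :
    ∃ (Q : Over (Spec (CommRingCat.of k))) (q : G ⟶ Q), LocallyOfFiniteType Q.hom ∧
      Surjective q.left ∧ Flat q.left ∧ LocallyOfFinitePresentation q.left ∧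
      IsPullback (fst G H) ((G ◁ i) ≫ μ[G]) q q := by
  classical
  haveI : Mono i := HomogQuot.mono_of_left i
  haveI : LocallyOfFiniteType H.hom := by rw [← Over.w i]; infer_instance
  haveI : Flat H.hom := GrpdLib.flat_to_field H.hom k (Iso.refl _)
  haveI : LocallyOfFinitePresentation H.hom := LocallyOfFinitePresentation.iff_locallyOfFiniteType.2 inferInstance
  haveI : IsSeparated G.hom := SGA3xLib.isSeparated_of_grpObj G
  haveI : LocallyOfFinitePresentation G.hom := LocallyOfFinitePresentation.iff_locallyOfFiniteType.2 inferInstance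
  haveI : IsLocallyNoetherian G.left := LocallyOfFiniteType.isLocallyNoetherian G.hom
  let S := Spec (CommRingCat.of k)
  let R : Over S := G ⊗ H
  let s : R ⟶ G := fst G H
  let t : R ⟶ G := GrpQLib.rightAct i
  have hR : IsEqvRel s t := HomogQuot.isEqvRel i
  haveI : Flat s.left := MorphismProperty.pullback_fst (P := @Flat) _ _ ‹Flat H.hom›
  haveI : LocallyOfFinitePresentation s.left :=
    MorphismProperty.pullback_fst (P := @LocallyOfFinitePresentation) _ _ ‹LocallyOfFinitePresentation H.hom›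
  haveI : LocallyOfFiniteType R.hom := by rw [← Over.w s]; infer_instance
  haveI : LocallyOfFiniteType t.left := by
    haveI : LocallyOfFiniteType (t.left ≫ G.hom) := by rw [Over.w]; infer_instance
    exact locallyOfFiniteType_of_comp t.left G.hom
  let F := quotSp ((yon S).map s) ((yon S).map t)
  let π : (yon S).obj G ⟶ F := quotSpπ _ _
  have hF : IsAlgSpace F := Stk19b.Fppf.isAlgSpace_quotSp_of_isEqvRel hR
  have := etLocal_flat.{u}.localTarget
  have := etLocal_lfp.{u}.localTarget
  have hπf : RepWith @Flat π := repWith_quotSpπ hR @Flat ‹_›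
  have hπl : RepWith @LocallyOfFinitePresentation π := repWith_quotSpπ hR @LocallyOfFinitePresentation ‹_›
  have hπs : RepWith @Surjective π := repWith_surjective_quotSpπ hR
  have sqK : IsPullback ((yon S).map t) ((yon S).map s) π π := isPullback_quotSpπ (isEqvRelSp_yon hR)
  have hqs : IsQuasiSeparatedSp F := by
    have : Sheaf.IsLocallySurjective (prod.map π π) :=
      isLocallySurjective_of_repWith (repWith_prod_map hπf hπf) (repWith_prod_map hπl hπl) (repWith_prod_map hπs hπs)
    refine repWith_of_isLocallySurjective hF.diag (prod.map π π) (isPullback_diag_prod_map sqK) _ ?_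
    refine repWith_prod_lift t s ?_
    exact quasiCompact_lift i
  obtain ⟨G₀, k₀, hk₀, hdense, -⟩ := exists_dense_scheme hF (isDecent_of_qsep hF hqs)
  haveI : IsOpenImmersion (hk₀.1.snd π).left := hk₀.property_snd π
  haveI : Surjective (hk₀.1.fst' π).left := hπs.property _ _ _ (hk₀.1.isPullback' π).flip
  haveI : Flat (hk₀.1.fst' π).left := hπf.property _ _ _ (hk₀.1.isPullback' π).flip
  haveI : LocallyOfFinitePresentation (hk₀.1.fst' π).left := hπl.property _ _ _ (hk₀.1.isPullback' π).flip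
  haveI : LocallyOfFinitePresentation G₀.hom := lfp_of_comp_fppf (hk₀.1.fst' π).left G₀.hom (by
    have h : (hk₀.1.fst' π).left ≫ G₀.hom = (hk₀.1.snd π).left ≫ G.hom := (Over.w _).trans (Over.w _).symm
    rw [h]; infer_instance)
  haveI : LocallyOfFiniteType G₀.hom := inferInstance
  haveI : IsLocallyNoetherian G₀.left := LocallyOfFiniteType.isLocallyNoetherian G₀.hom
  have hj₀ : Dense (Set.range (hk₀.1.snd π).left) := by
    refine (hdense.preimage (isOpenMap_ofPt_of_flat π hπf hπl)).mono ?_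
    intro z hz
    obtain ⟨y, hy⟩ : Points.ofPt π z ∈ Set.range (Points.ofPt k₀) := (Induct.range_map_yon k₀).subset hz
    obtain ⟨r, -, hr⟩ := (ofPt_eq_ofPt_iff (hk₀.1.isPullback' π) y z).1 hy
    exact ⟨r, hr⟩
  let P : G.left.Opens → Prop := fun V => ∃ (A : Over S) (u₀ : (yon S).obj A ⟶ F), IsAffine A.left ∧
    RepWith @IsOpenImmersion u₀ ∧ ∀ z ∈ V, ∃ a, Points.ofPt u₀ a = Points.ofPt π z
  have hP : ∀ σ : Set G.left, σ.Finite → (∀ y ∈ σ, IsMaxPt y) → ∃ V, P V ∧ σ ⊆ V := fun σ hσ hmax => by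
    have hpre : ∀ y ∈ σ, ∃ x, (hk₀.1.snd π).left x = y := fun y hy =>
      SGA3cLib.mem_of_mem_closure_of_isOpen G.left (hk₀.1.snd π).left.isOpenEmbedding.isOpen_range
        (mem_genericPoints_of_isMaxPt (hmax y hy)) (hj₀ y)
    choose x hx using hpre
    let a : ∀ y ∈ σ, G₀.left := fun y hy => (hk₀.1.fst' π).left (x y hy)
    have hamax : ∀ y hy, IsMaxPt (a y hy) := fun y hy => by
      refine isMaxPt_map _ fun x' hx' => ?_
      refine (hk₀.1.snd π).left.isOpenEmbedding.injective ?_
      rw [hx]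
      exact hmax y hy _ (hx y hy ▸ hx'.map (hk₀.1.snd π).left.continuous)
    choose O hO hxO hO' using fun p : G₀.left =>
      exists_isAffineOpen_mem_and_subset (x := p) (U := (⊤ : G₀.left.Opens)) trivial
    haveI := hσ.to_subtype
    let W : G₀.left.Opens := ⨆ y : σ, O (a y.1 y.2)
    haveI : CompactSpace (W : Scheme.{u}) := isCompact_iff_compactSpace.mp (by
      show IsCompact ((W : G₀.left.Opens) : Set G₀.left)
      rw [TopologicalSpace.Opens.coe_iSup]
      exact isCompact_iUnion fun y => (hO _).isCompact)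
    haveI : IsNoetherian (W : Scheme.{u}) := ⟨⟩
    obtain ⟨U, hU, -, hgen⟩ := FlatMorStrat.exists_affine_dense (W : Scheme.{u})
    let A : Over S := Over.mk ((U.ι ≫ W.ι) ≫ G₀.hom)
    let ιA : A ⟶ G₀ := Over.homMk (U.ι ≫ W.ι)
    haveI : IsAffine A.left := hU
    haveI : IsOpenImmersion ιA.left := inferInstanceAs (IsOpenImmersion (U.ι ≫ W.ι))
    let u₀ : (yon S).obj A ⟶ F := (yon S).map ιA ≫ k₀
    have hu₀ : RepWith @IsOpenImmersion u₀ := RepWith.comp ((repWith_yon_map_iff _ ιA).2 inferInstance) hk₀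
    let V : G.left.Opens := ⟨Points.ofPt π ⁻¹' Set.range (Points.ofPt u₀),
      ((isOpenMap_ofPt_of_flat u₀ (RepWith.mono (fun _ _ f (_ : IsOpenImmersion f) => (inferInstance : Flat f)) hu₀)
        (RepWith.mono (fun _ _ f (_ : IsOpenImmersion f) => (inferInstance : LocallyOfFinitePresentation f)) hu₀)).isOpen_range).preimage
        (Points.continuous_ofPt π)⟩
    refine ⟨V, ⟨A, u₀, inferInstance, hu₀, fun z hz => hz⟩, fun y hy => ?_⟩
    have haW : a y hy ∈ W := TopologicalSpace.Opens.mem_iSup.2 ⟨⟨y, hy⟩, hxO _⟩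
    obtain ⟨p, hp, hpa⟩ := hgen ⟨a y hy, haW⟩
    have hpe : W.ι p = a y hy := hamax y hy _ (hpa.map W.ι.continuous)
    refine ⟨⟨p, hp⟩, ?_⟩
    show Points.ofPt u₀ _ = Points.ofPt π y
    rw [ofPt_map, ← hx y hy]
    show Points.ofPt k₀ ((U.ι ≫ W.ι) ⟨p, hp⟩) = Points.ofPt π ((hk₀.1.snd π).left (x y hy))
    rw [Scheme.Hom.comp_apply, show U.ι ⟨p, hp⟩ = p from rfl, hpe]
    show Points.ofPt k₀ ((hk₀.1.fst' π).left (x y hy)) = _
    rw [← ofPt_map, ← ofPt_map, (hk₀.1.isPullback' π).w]
  have hloc : ∀ z : G.left, ∃ (M : Over S) (c : (yon S).obj M ⟶ F), RepWith @IsOpenImmersion c ∧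
      Points.ofPt π z ∈ Set.range (Points.map c) := fun z => by
    obtain ⟨L, hL, g₀, V, N, ⟨A, u₀, hA, hu₀, hVu⟩, hzN, hN⟩ := exists_local_level G P hP z
    haveI := hA
    haveI := hL
    let T : Over S := ptF k L
    haveI : IsAffine T.left := inferInstanceAs (IsAffine (Spec (CommRingCat.of L)))
    haveI : IsFinite T.hom := (IsFinite.SpecMap_iff _).mpr (RingHom.finite_algebraMap.mpr inferInstance)
    haveI : Flat T.hom := GrpdLib.flat_to_field T.hom k (Iso.refl _)
    haveI : LocallyOfFinitePresentation T.hom := LocallyOfFinitePresentation.iff_locallyOfFiniteType.2 inferInstance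
    haveI : Surjective T.hom := ⟨fun y => ⟨IsLocalRing.closedPoint L, Subsingleton.elim (α := PrimeSpectrum k) _ _⟩⟩
    -- the base change of the quotient
    let F' : Sp S := F ⨯ (yon S).obj T
    let π' : (yon S).obj (G ⊗ T) ⟶ F' := prod.lift ((yon S).map (fst G T) ≫ π) ((yon S).map (snd G T))
    have sqπ : IsPullback ((yon S).map (fst G T)) π' π (prod.fst : F' ⟶ F) :=
      isPullback_chart_prod π (fst G T) (snd G T) (IsPullback.of_hasPullback G.hom T.hom)
    let u₁ : (yon S).obj (A ⊗ T) ⟶ F' := prod.lift ((yon S).map (fst A T) ≫ u₀) ((yon S).map (snd A T))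
    have squ : IsPullback ((yon S).map (fst A T)) u₁ u₀ (prod.fst : F' ⟶ F) :=
      isPullback_chart_prod u₀ (fst A T) (snd A T) (IsPullback.of_hasPullback A.hom T.hom)
    have hu₁ : RepWith @IsOpenImmersion u₁ := RepWith.baseChange squ hu₀
    have hπ'f : RepWith @Flat π' := RepWith.baseChange sqπ hπf
    have hπ'l : RepWith @LocallyOfFinitePresentation π' := RepWith.baseChange sqπ hπl
    have hπ's : RepWith @Surjective π' := RepWith.baseChange sqπ hπs
    haveI : Sheaf.IsLocallySurjective π' := isLocallySurjective_of_repWith hπ'f hπ'l hπ's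
    haveI : Epi π' := Sheaf.epi_of_isLocallySurjective _
    let s' : R ⊗ T ⟶ G ⊗ T := s ▷ T
    let t' : R ⊗ T ⟶ G ⊗ T := t ▷ T
    have hw' : (yon S).map t' ≫ π' = (yon S).map s' ≫ π' := by
      apply Limits.prod.hom_ext
      · simp only [π', Category.assoc, prod.lift_fst]
        rw [← Functor.map_comp_assoc, ← Functor.map_comp_assoc, whiskerRight_fst, whiskerRight_fst,
          Functor.map_comp_assoc, Functor.map_comp_assoc, sqK.w]
      · simp only [π', Category.assoc, prod.lift_snd]
        rw [← Functor.map_comp, ← Functor.map_comp, whiskerRight_snd, whiskerRight_snd]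
    have sqK' : IsPullback ((yon S).map t') ((yon S).map s') π' π' := by
      refine isPullback_of_yon hw' fun V x y e => ?_
      obtain ⟨x, rfl⟩ := (yon S).map_surjective x
      obtain ⟨y, rfl⟩ := (yon S).map_surjective y
      have e1 : (yon S).map (x ≫ fst G T) ≫ π = (yon S).map (y ≫ fst G T) ≫ π := by
        simpa only [π', Category.assoc, prod.lift_fst, Functor.map_comp] using congrArg (· ≫ prod.fst) e
      have e2 : x ≫ snd G T = y ≫ snd G T := (yon S).map_injective (by
        simpa only [π', Category.assoc, prod.lift_snd, Functor.map_comp] using congrArg (· ≫ prod.snd) e)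
      obtain ⟨r, hr⟩ := (yon S).map_surjective (sqK.lift _ _ e1)
      have r1 : r ≫ t = x ≫ fst G T := (yon S).map_injective (by rw [Functor.map_comp, hr, sqK.lift_fst])
      have r2 : r ≫ s = y ≫ fst G T := (yon S).map_injective (by rw [Functor.map_comp, hr, sqK.lift_snd])
      refine ⟨(yon S).map (lift r (x ≫ snd G T)), ⟨?_, ?_⟩, fun m hm => ?_⟩
      · rw [← Functor.map_comp]
        congr 1
        exact CartesianMonoidalCategory.hom_ext _ _ (by simp [t', r1]) (by simp [t'])
      · rw [← Functor.map_comp]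
        congr 1
        exact CartesianMonoidalCategory.hom_ext _ _ (by simp [s', r2]) (by simp [s', e2])
      · obtain ⟨m, rfl⟩ := (yon S).map_surjective m
        obtain ⟨hm1, hm2⟩ := hm
        rw [← Functor.map_comp] at hm1 hm2
        have m1 := (yon S).map_injective hm1
        have m2 := (yon S).map_injective hm2
        congr 1
        refine CartesianMonoidalCategory.hom_ext _ _ ?_ ?_
        · rw [lift_fst]
          refine hR.injective _ _ _ ?_ ?_
          · rw [r1, ← m1]; simp [t']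
          · rw [r2, ← m2]; simp [s']
        · rw [lift_snd, ← m1]; simp [t']
    -- translations
    let tr : (T ⟶ G) → (G ⊗ T ⟶ G ⊗ T) := fun g => lift (act g) (snd G T)
    have htr : ∀ g g', tr g ≫ tr g' = tr (g' * g) := fun g g' => by
      refine CartesianMonoidalCategory.hom_ext _ _ ?_ ?_
      · simp only [tr, act, Category.assoc, lift_fst, MonObj.comp_mul, lift_snd_assoc, _root_.mul_assoc]
      · simp only [tr, Category.assoc, lift_snd]
    have htr1 : tr 1 = 𝟙 _ := by
      refine CartesianMonoidalCategory.hom_ext _ _ ?_ ?_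
      · simp only [tr, act, lift_fst, MonObj.comp_one, _root_.one_mul, Category.id_comp]
      · simp only [tr, lift_snd, Category.id_comp]
    have hcond : ∀ g, (yon S).map s' ≫ (yon S).map (tr g) ≫ π' = (yon S).map t' ≫ (yon S).map (tr g) ≫ π' := by
      intro g
      let r : R ⊗ T ⟶ R ⊗ T :=
        lift (lift ((snd R T ≫ g) * (fst R T ≫ fst G H)) (fst R T ≫ snd G H)) (snd R T)
      have h1 : r ≫ s' = s' ≫ tr g := by
        refine CartesianMonoidalCategory.hom_ext _ _ ?_ ?_
        · simp [r, s', s, tr, act, MonObj.comp_mul]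
        · simp [r, s', tr]
      have h2 : r ≫ t' = t' ≫ tr g := by
        refine CartesianMonoidalCategory.hom_ext _ _ ?_ ?_
        · simp [r, t', t, tr, act, MonObj.comp_mul, GrpQLib.comp_rightAct, GrpQLib.rightAct, _root_.mul_assoc]
        · simp [r, t', tr]
      rw [← Functor.map_comp_assoc, ← Functor.map_comp_assoc, ← h1, ← h2, Functor.map_comp_assoc,
        Functor.map_comp_assoc, ← hw']
    choose τ hτ using fun g : T ⟶ G => exists_desc_kernelPair s' t' π' sqK' _ (hcond g)
    have hττ : ∀ g g', τ g ≫ τ g' = τ (g' * g) := fun g g' => by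
      rw [← cancel_epi π', reassoc_of% (hτ g), hτ, hτ, ← Functor.map_comp_assoc, htr]
    have hτ1 : τ 1 = 𝟙 F' := by
      rw [← cancel_epi π', hτ, htr1, (yon S).map_id, Category.id_comp, Category.comp_id]
    have hτi : ∀ g, IsIso (τ g) := fun g =>
      ⟨τ g⁻¹, by rw [hττ, inv_mul_cancel, hτ1], by rw [hττ, mul_inv_cancel, hτ1]⟩
    let f : (T ⟶ G) → ((yon S).obj (A ⊗ T) ⟶ F') := fun g => u₁ ≫ τ g⁻¹
    have hf : ∀ g, RepWith @IsOpenImmersion (f g) := fun g =>
      haveI := hτi g⁻¹
      RepWith.comp hu₁ (repWith_of_isIso _ _)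
    let O : Set (Points F) := Points.ofPt π '' (N : Set G.left)
    have hO : IsOpen O := isOpenMap_ofPt_of_flat π hπf hπl _ N.isOpen
    let j := openSubspaceι F O
    have hjo : RepWith @IsOpenImmersion j := repWith_openSubspaceι F hO
    let P' : Sp S := pullback (prod.fst : F' ⟶ F) j
    let j' : P' ⟶ F' := pullback.fst prod.fst j
    have sqP : IsPullback j' (pullback.snd prod.fst j) (prod.fst : F' ⟶ F) j := IsPullback.of_hasPullback _ _
    have hj' : RepWith @IsOpenImmersion j' := RepWith.baseChange sqP.flip hjo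
    have hsub : Set.range (Points.map j') ⊆ Set.range (Points.map (f g₀)) := by
      rintro _ ⟨p, rfl⟩
      obtain ⟨w, hw⟩ := surjective_ofPt π' hπ's (Points.map j' p)
      obtain ⟨z', hz', hzz'⟩ : Points.map j (Points.map (pullback.snd prod.fst j) p) ∈ O :=
        (range_openSubspaceι F O).subset ⟨_, rfl⟩
      obtain ⟨y, hy1, hy2⟩ := exists_point_of_isPullback sqπ
        (x := Points.ofScheme G z') (y := Points.ofPt π' w) (by
        rw [← Points.ofPt_eq_map_ofScheme, hzz', hw, ← Points.map_comp, ← Points.map_comp, sqP.w])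
      obtain ⟨w', rfl⟩ := (Points.schemeEquiv (G ⊗ T)).surjective y
      have hw' : (fst G T).left w' = z' := by
        refine ofPt_id_injective G ?_
        rw [← ofPt_map, Category.comp_id, Points.ofPt_eq_map_ofScheme, Points.ofPt_eq_map_ofScheme, Points.map_id]
        exact hy1
      have hv : (fst G T).left ((tr g₀).left w') ∈ V := by
        rw [← Scheme.Hom.comp_apply, ← Over.comp_left, lift_fst]
        exact hN w' (by rw [hw']; exact hz')
      obtain ⟨a, ha⟩ := hVu _ hv
      obtain ⟨b, -, hb⟩ := exists_point_of_isPullback squ (x := Points.ofScheme A a)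
        (y := Points.ofPt π' ((tr g₀).left w')) (by
        rw [← Points.ofPt_eq_map_ofScheme, ha, Points.map_ofPt, prod.lift_fst, ofPt_map])
      refine ⟨b, ?_⟩
      have e : π' = ((yon S).map (tr g₀) ≫ π') ≫ τ g₀⁻¹ := by
        rw [← hτ g₀, Category.assoc, hττ, inv_mul_cancel, hτ1, Category.comp_id]
      have h3 : Points.ofPt π' w' = Points.map (τ g₀⁻¹) (Points.ofPt π' ((tr g₀).left w')) := by
        rw [Points.map_ofPt]
        conv_lhs => rw [e]
        rw [Category.assoc, ofPt_map]
      rw [← hw, ← hy2]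
      refine Eq.trans ?_ ((Points.ofPt_eq_map_ofScheme π' w').trans rfl)
      rw [h3, ← hb, ← Points.map_comp]
    obtain ⟨l, hl⟩ := (exists_lift_iff_range_subset (hf g₀) j').2 hsub
    haveI : Mono (f g₀) := Induct.mono_openImm (hf g₀)
    have sql : IsPullback (𝟙 P') l j' (f g₀) := by
      refine isPullback_of_yon (by rw [Category.id_comp, hl]) fun V' x y h => ⟨x, ⟨Category.comp_id x, ?_⟩, ?_⟩
      · exact (cancel_mono (f g₀)).1 (by rw [Category.assoc, hl, h])
      · rintro z ⟨hz, -⟩
        rw [← hz, Category.comp_id]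
    obtain ⟨Q', e', -⟩ := exists_scheme_pullback hj'.1 sql
    obtain ⟨o, ho⟩ := (yon S).map_surjective (e'.hom ≫ l)
    haveI : IsOpenImmersion o.left := (repWith_yon_map_iff _ o).1
      (ho ▸ RepWith.comp (repWith_of_isIso _ _) (RepWith.baseChange sql hj'))
    haveI : IsAffine (A ⊗ T).left := inferInstanceAs (IsAffine (pullback A.hom T.hom))
    let ψ : (yon S).obj Q' ⟶ openSubspace F O := e'.hom ≫ pullback.snd prod.fst j
    have hψ : ∀ (Pr : MorphismProperty Scheme.{u}) [Pr.IsStableUnderBaseChange], Pr T.hom → RepWith Pr ψ :=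
      fun Pr _ h => MorphismProperty.RespectsIso.precomp _ e'.hom _ (RepWith.baseChange sqP (repWith_prod_fst T h))
    have hψf : RepWith @IsFinite ψ := hψ _ ‹_›
    have hψfl : RepWith @Flat ψ := hψ _ ‹_›
    have hψl : RepWith @LocallyOfFinitePresentation ψ := hψ _ ‹_›
    have hψs : RepWith @Surjective ψ := hψ _ ‹_›
    have sqψ := hψf.1.isPullback' ψ
    haveI : IsFinite (hψf.1.snd ψ).left := hψf.property_snd ψ
    obtain ⟨M, ⟨eM⟩⟩ := exists_iso_yon_of_finLocFree_cover (R := hψf.1.pullback ψ) ψ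
      (isLocallySurjective_of_repWith hψfl hψl hψs) (hψf.1.snd ψ) (hψf.1.fst' ψ) sqψ
      ⟨hψf.property_snd ψ, hψfl.property _ _ _ sqψ, hψl.property _ _ _ sqψ⟩
      ⟨hψf.property _ _ _ sqψ.flip, hψfl.property _ _ _ sqψ.flip, hψl.property _ _ _ sqψ.flip⟩
      (fun Z _ hne => by
        obtain ⟨v, hv⟩ := hne
        have hF' : ((hψf.1.fst' ψ).left '' ((hψf.1.snd ψ).left ⁻¹' {v})).Finite :=
          ((hψf.1.snd ψ).left.finite_preimage_singleton v).image _
        haveI : LocallyQuasiFinite o.left := inferInstance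
        haveI : IsSeparated o.left := inferInstance
        obtain ⟨W, hW, hsW⟩ := FlatMorDVR.exists_affine_of_finite_lqf o.left hF'.toFinset
        exact ⟨v, hv, W, hW, fun r hr => hsW _ (hF'.mem_toFinset.2 ⟨r, hr, rfl⟩)⟩)
    refine ⟨M, eM.hom ≫ j, RepWith.comp (repWith_of_isIso _ _) hjo, ?_⟩
    obtain ⟨y, hy⟩ : Points.ofPt π z ∈ Set.range (Points.map j) :=
      (range_openSubspaceι F O).symm.subset ⟨z, hzN, rfl⟩
    exact ⟨Points.map eM.inv y, by rw [← Points.map_comp, eM.inv_hom_id_assoc, hy]⟩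
  choose Mx cx hcx hxc using hloc
  obtain ⟨M, ⟨eM⟩⟩ := exists_iso_yon_of_openCover cx hcx fun x => by
    obtain ⟨z, rfl⟩ := surjective_ofPt π hπs x
    exact ⟨z, hxc z⟩
  obtain ⟨q, hq⟩ := (yon S).map_surjective (π ≫ eM.inv)
  have sqq : IsPullback (𝟙 _) ((yon S).map q) π eM.hom := by
    refine IsPullback.of_horiz_isIso ⟨?_⟩
    rw [hq, Category.id_comp, Category.assoc, eM.inv_hom_id, Category.comp_id]
  haveI : Surjective q.left := hπs.property _ _ _ sqq
  haveI : Flat q.left := hπf.property _ _ _ sqq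
  haveI : LocallyOfFinitePresentation q.left := hπl.property _ _ _ sqq
  have hμ : (G ◁ i) ≫ μ[G] = t := by
    show _ = fst G H * (snd G H ≫ i)
    rw [Hom.mul_def]; congr 1
  have sqQ : IsPullback (fst G H) ((G ◁ i) ≫ μ[G]) q q := by
    rw [hμ]
    refine IsPullback.flip (IsPullback.of_map (yon S) ?_ ?_)
    · refine (yon S).map_injective ?_
      rw [Functor.map_comp, Functor.map_comp, hq, ← Category.assoc, ← Category.assoc, sqK.w]
    · exact sqK.of_iso (Iso.refl _) (Iso.refl _) (Iso.refl _) eM.symm (by simp [t]) (by simp [s]) (by simp [hq]) (by simp [hq])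
  haveI : LocallyOfFinitePresentation M.hom := lfp_of_comp_fppf q.left M.hom (by rw [Over.w]; infer_instance)
  exact ⟨M, q, inferInstance, inferInstance, inferInstance, inferInstance, sqQ⟩

end Main

end Groth.Agent.GrpQ26
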